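import Cfsg.Agent.Lib.SporRecognition.FischerAut.O7Cent

/-! Generated: centralisers of elements of order 7 and 13 in the group on `b, …, i`. -/

set_option autoImplicit false
set_option maxRecDepth 20000
set_option linter.all false
set_option Elab.async false

namespace CfsgLib.SporRecognition.Cert.O7C

open CfsgLib.SporRecognition.CosetCert
open CfsgLib.SporRecognition.FischerAut
open CfsgLib.SporRecognition.Cert.Fi22O7V (dig tabs)
open Cfsg.Spor.Fi22 (Gen)

def y7 : List (Gen × Bool) := [(.b, true), (.c, true), (.d, true), (.e, true), (.f, true), (.g, true)]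
def Y7Lit : Nat := 0x9aa0a88a698920589604a068280a2a9523c8ea3d7a24079e3ea4e9479a457823995dc6715ea955c37b1ed961c196dc0966a6a9dbf9819e8859c9b9a581e089ae0b831a29c273acab3686789e65180565625a3692866122760e2860a838adaa8b181a228aaf2bb6028da3a66a6562586197096aa6a41726425a5cc91dcd5a29da7aaf936a285eac4cd328d9507a54f5ad4e5b16d536ad971f09754c7ce627d14ba86a0a7e63a72344c12fae1d174dd04e985619396213883e7584213851989ee8ca2e7da25cf6f5584a9294a10841eb77e1fa7dd20699a75091f6a5435111e8b67c8ba308c5b99de769d2729c5f641915452aa62d056690463d8c6390e72159569cb5715d9264a7664e7765f97a5a6457f5f9e45d526494e43faaeac2b13f6a4a8e9ba5dac38dbb389b06b5af3ddef5d9777c9795ea4c92dfd921fe912438fdb26819f386923bab9aeabda468fa1d52544e05815f559555520e64d94659978be1b876298994a525404fcfb3f0c4a94daadab5ad27f9ea6f5bd6e30d7d5f1735c971871b46d5b76e2128460d8260659d663067e9a2abaa6a899e61485223012e4b52c4912375dd8771f17b9eb4751b44913374d7360a6a4280a6296a56529193b4f0a5521475193e4f5db769d6729c7711374d4a29424f8e285a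12353fcf83e503405003e9b66cda83d8df3d0f13acec6f8bb2d8899966494e6d9b2184590f4411a461174459564987434c242c858021a85a15959fc36cd5378dc35978364bf348be794cf329e1268961aa208de338ca3b754ef3a4f23c0ea56ced290e628dde751d273a2387cb92d0bc2e8a0284b727e1e2bcab67478275ff7edf97d603788cd320d033887220cb219996418d6291c78c992089b2108120ddf24080590571f47c0c5ba6c5ae6ad366f0ae19cb01a4661a15e55d533d4f31e4641886518d9b1c46017d342d45b1681f1701c5ed745c10c428911284812c494ad27350d3344471144658cc910841424952503e0f0430447e1483d03cbd515413a0e73942f0b42e408b82ccb22c4300ad312a8a90a4271dc741cc241846c0a009278130dc350209c464cc31cc63141b0649825c932481a23c8c22c1615454144050784e130041fc22028201ec7a2b4ac2a0a7038761d472008391bc6e1ac010d8590d0100c85e174121608e2348a0005614c4414021134400ec1d0fc3a1c06d0b0380a83308c260944f06017050150340c02c0701803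
noncomputable def Y7 (u : Nat) : Nat := Nat.land (Nat.shiftRight Y7Lit (Nat.mul 10 u)) 1023
theorem yEq7 : allBelow 10 702 (fun u => Nat.beq (Y7 u) (trace (wordTabs tabs y7) u)) = true := by decide +kernel

def cfd7Lit : Nat := 0x85a04428a6581119a1a5096809949089294459888148a4944416a429204666854128a6568159aa65a9421a2a1161a222940a654428296881059916860584226652a085166a50a9956695a04945569866954281165a22681a6890a56996882544281648824596514a51422a169a964996a6604216826a0508a69449419942204965181696649669441a88142984418a69a285a281152961994a5954195a216926898421a05044904508a942a994596a459605968824160a588a5566499a169aa09a9444252962948a6416605a1081a651920494282218228115a0559a29a5629a429a51060a4169116aa6625229461a5299a488645aa2168194581054295166a05aa20420aa50994494565a099a0a9a0a665a649a55452451084598a82586845a249685996112629544a509a29041a60a816a2645048a9950a551081055a0668868a9a5066505650599a59865a2629a419a8aa29259844a4a419958a559689055a568159120a2648840a962a0168459859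51109a582044504665a4a2a8a20106a286289a289048645960990a094548a6546845068a6055458699221616099a916a9a5182a96a50a98841466112015a4540a5229929a8881969042228226696145514408216092518a9819a581085a95a6542151051648245a982a64666949a6426a19915a826a529090991162825421220a9455145082251460859a4a980a41868915909969081295a966a04a8828a6106295905662665a19660654998a950656858181988a4506a0484415a2a8a281040566265929454115a256646648428a252845a19662654095aa29041a81a1a119909a2622a059528a84109961590625a96450642a6466985a2a08a946a6626612051468522949a6466a01a9545820950949489981946445429a851520826466a09a94aa6448864581a5a91545282151618250522146621605459a95152a6a82024695a62826614652094699899506568559884498a425a562a8a1412a29241a0a1128991290a8a656a2a15954100a4a86581a1a111629a415a8a5905962a2601298a1a9598a8865604040409289a10689662844a265516152690949488a45960a95169829a4546408591495a9915126a4202020119146988589828a9a151609a6984525691a1491a98808480991488519aa58216a4a6aa26289644a464145652a290659648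a1a962528625644048406868a10562606555654042895564964a56249619012904a5616551591a1965601009091494520a91909aaa9a808146aa986985a918692602261621491a949a80209aa646a02189850260a98949a6a4080191a6a6052620258189aa921264a44a1895a195004195662540491928064956656292852566100956190212598965642864406a4a1625404964996119558485555958440001809096a99a91614a1a992006a9260121a526aaa6aa461a4180aa496009614a46a021a619a4898511aa0980218aaa9a9220000901819aaa52620246002484a1955595589258240558690058650012192006406164a22550640124956049664021249556864406240061219254001612006124292680084984026024986a2482486424a9266a9086998012188024600986a000a48402486048602486495184184981855564900849586418440189000018490184a490aaa6180121800206002484920009618000109020012492184124900218602492184186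
noncomputable def cfd7 (u : Nat) : Nat := Nat.land (Nat.shiftRight cfd7Lit (Nat.mul 14 u)) 16383
noncomputable def cf7 (w k : Nat) : Nat := Nat.land (Nat.shiftRight (cfd7 w) (Nat.mul 2 k)) 3
theorem cfOK7_c0 : allPow 702 (fun u => imgEq Y7 cf7 10 u u) 6 0 = true := by decide +kernel
theorem cfOK7_c1 : allPow 702 (fun u => imgEq Y7 cf7 10 u u) 6 64 = true := by decide +kernel
theorem cfOK7_c2 : allPow 702 (fun u => imgEq Y7 cf7 10 u u) 6 128 = true := by decide +kernel
theorem cfOK7_c3 : allPow 702 (fun u => imgEq Y7 cf7 10 u u) 6 192 = true := by decide +kernel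
theorem cfOK7_c4 : allPow 702 (fun u => imgEq Y7 cf7 10 u u) 6 256 = true := by decide +kernel
theorem cfOK7_c5 : allPow 702 (fun u => imgEq Y7 cf7 10 u u) 6 320 = true := by decide +kernel
theorem cfOK7_c6 : allPow 702 (fun u => imgEq Y7 cf7 10 u u) 6 384 = true := by decide +kernel
theorem cfOK7_c7 : allPow 702 (fun u => imgEq Y7 cf7 10 u u) 6 448 = true := by decide +kernel
theorem cfOK7_c8 : allPow 702 (fun u => imgEq Y7 cf7 10 u u) 6 512 = true := by decide +kernel
theorem cfOK7_c9 : allPow 702 (fun u => imgEq Y7 cf7 10 u u) 6 576 = true := by decide +kernel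
theorem cfOK7_c10 : allPow 702 (fun u => imgEq Y7 cf7 10 u u) 6 640 = true := by decide +kernel
theorem cfOK7 : allBelow 10 702 (fun u => imgEq Y7 cf7 10 u u) = true :=
  allBelow_of_upto (hi := 704)
    (Upto.trans (mid := 320) (Upto.trans (mid := 128) (Upto.trans (mid := 64) ((Upto.of_pow cfOK7_c0 (Nat.le_refl _)) : Upto _ _ 0 (0 + 2 ^ 6))
    ((Upto.of_pow cfOK7_c1 (Nat.le_refl _)) : Upto _ _ 64 (64 + 2 ^ 6)))
    (Upto.trans (mid := 192) ((Upto.of_pow cfOK7_c2 (Nat.le_refl _)) : Upto _ _ 128 (128 + 2 ^ 6))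
    (Upto.trans (mid := 256) ((Upto.of_pow cfOK7_c3 (Nat.le_refl _)) : Upto _ _ 192 (192 + 2 ^ 6))
    ((Upto.of_pow cfOK7_c4 (Nat.le_refl _)) : Upto _ _ 256 (256 + 2 ^ 6)))))
    (Upto.trans (mid := 512) (Upto.trans (mid := 384) ((Upto.of_pow cfOK7_c5 (Nat.le_refl _)) : Upto _ _ 320 (320 + 2 ^ 6))
    (Upto.trans (mid := 448) ((Upto.of_pow cfOK7_c6 (Nat.le_refl _)) : Upto _ _ 384 (384 + 2 ^ 6))
    ((Upto.of_pow cfOK7_c7 (Nat.le_refl _)) : Upto _ _ 448 (448 + 2 ^ 6))))
    (Upto.trans (mid := 576) ((Upto.of_pow cfOK7_c8 (Nat.le_refl _)) : Upto _ _ 512 (512 + 2 ^ 6))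
    (Upto.trans (mid := 640) ((Upto.of_pow cfOK7_c9 (Nat.le_refl _)) : Upto _ _ 576 (576 + 2 ^ 6))
    ((Upto.of_pow cfOK7_c10 (Nat.le_refl _)) : Upto _ _ 640 (640 + 2 ^ 6))))))
    (by decide) (by decide)

def S7 : List Nat := [10, 16, 19, 30]
theorem survOK7_c0 : allPow 702 (fun u => (bif imgEq Y7 cf7 u u 10 then Nat.beq u 10 || Nat.beq u 16 || Nat.beq u 19 || Nat.beq u 30 else true)) 6 0 = true := by decide +kernel
theorem survOK7_c1 : allPow 702 (fun u => (bif imgEq Y7 cf7 u u 10 then Nat.beq u 10 || Nat.beq u 16 || Nat.beq u 19 || Nat.beq u 30 else true)) 6 64 = true := by decide +kernel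
theorem survOK7_c2 : allPow 702 (fun u => (bif imgEq Y7 cf7 u u 10 then Nat.beq u 10 || Nat.beq u 16 || Nat.beq u 19 || Nat.beq u 30 else true)) 6 128 = true := by decide +kernel
theorem survOK7_c3 : allPow 702 (fun u => (bif imgEq Y7 cf7 u u 10 then Nat.beq u 10 || Nat.beq u 16 || Nat.beq u 19 || Nat.beq u 30 else true)) 6 192 = true := by decide +kernel
theorem survOK7_c4 : allPow 702 (fun u => (bif imgEq Y7 cf7 u u 10 then Nat.beq u 10 || Nat.beq u 16 || Nat.beq u 19 || Nat.beq u 30 else true)) 6 256 = true := by decide +kernel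
theorem survOK7_c5 : allPow 702 (fun u => (bif imgEq Y7 cf7 u u 10 then Nat.beq u 10 || Nat.beq u 16 || Nat.beq u 19 || Nat.beq u 30 else true)) 6 320 = true := by decide +kernel
theorem survOK7_c6 : allPow 702 (fun u => (bif imgEq Y7 cf7 u u 10 then Nat.beq u 10 || Nat.beq u 16 || Nat.beq u 19 || Nat.beq u 30 else true)) 6 384 = true := by decide +kernel
theorem survOK7_c7 : allPow 702 (fun u => (bif imgEq Y7 cf7 u u 10 then Nat.beq u 10 || Nat.beq u 16 || Nat.beq u 19 || Nat.beq u 30 else true)) 6 448 = true := by decide +kernel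
theorem survOK7_c8 : allPow 702 (fun u => (bif imgEq Y7 cf7 u u 10 then Nat.beq u 10 || Nat.beq u 16 || Nat.beq u 19 || Nat.beq u 30 else true)) 6 512 = true := by decide +kernel
theorem survOK7_c9 : allPow 702 (fun u => (bif imgEq Y7 cf7 u u 10 then Nat.beq u 10 || Nat.beq u 16 || Nat.beq u 19 || Nat.beq u 30 else true)) 6 576 = true := by decide +kernel
theorem survOK7_c10 : allPow 702 (fun u => (bif imgEq Y7 cf7 u u 10 then Nat.beq u 10 || Nat.beq u 16 || Nat.beq u 19 || Nat.beq u 30 else true)) 6 640 = true := by decide +kernel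
theorem survOK7 : allBelow 10 702 (fun u => (bif imgEq Y7 cf7 u u 10 then Nat.beq u 10 || Nat.beq u 16 || Nat.beq u 19 || Nat.beq u 30 else true)) = true :=
  allBelow_of_upto (hi := 704)
    (Upto.trans (mid := 320) (Upto.trans (mid := 128) (Upto.trans (mid := 64) ((Upto.of_pow survOK7_c0 (Nat.le_refl _)) : Upto _ _ 0 (0 + 2 ^ 6))
    ((Upto.of_pow survOK7_c1 (Nat.le_refl _)) : Upto _ _ 64 (64 + 2 ^ 6)))
    (Upto.trans (mid := 192) ((Upto.of_pow survOK7_c2 (Nat.le_refl _)) : Upto _ _ 128 (128 + 2 ^ 6))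
    (Upto.trans (mid := 256) ((Upto.of_pow survOK7_c3 (Nat.le_refl _)) : Upto _ _ 192 (192 + 2 ^ 6))
    ((Upto.of_pow survOK7_c4 (Nat.le_refl _)) : Upto _ _ 256 (256 + 2 ^ 6)))))
    (Upto.trans (mid := 512) (Upto.trans (mid := 384) ((Upto.of_pow survOK7_c5 (Nat.le_refl _)) : Upto _ _ 320 (320 + 2 ^ 6))
    (Upto.trans (mid := 448) ((Upto.of_pow survOK7_c6 (Nat.le_refl _)) : Upto _ _ 384 (384 + 2 ^ 6))
    ((Upto.of_pow survOK7_c7 (Nat.le_refl _)) : Upto _ _ 448 (448 + 2 ^ 6))))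
    (Upto.trans (mid := 576) ((Upto.of_pow survOK7_c8 (Nat.le_refl _)) : Upto _ _ 512 (512 + 2 ^ 6))
    (Upto.trans (mid := 640) ((Upto.of_pow survOK7_c9 (Nat.le_refl _)) : Upto _ _ 576 (576 + 2 ^ 6))
    ((Upto.of_pow survOK7_c10 (Nat.le_refl _)) : Upto _ _ 640 (640 + 2 ^ 6))))))
    (by decide) (by decide)

def P7_10Lit : Nat := 0xaf6bcaeebaae6b8adeb6ad6b4aceb2ac6b0abeaeab6acaaeaaaa6a8a9ea6a96a4a8ea2a86a0a7e9ea769ca6e9aa6698a5e96a5694a4e92a4690a3e8ea368ca2e8aa2688a1e86a1684a0e82a06809fe7e9f67c9ee7a9e6789de769d6749ce729c6709be6e9b66c9ae6a9a66899e669966498e629866097e5e9765c96e5a9665895e569565494e529465093e4e9364c92e4a9264891e469164490e42906408fe3e8f63c8ee3a8e6388de368d6348ce328c6308be2e8b62c8ae2a8a62889e268962488e228862087e1e8761c86e1a8661885e168561484e128461083e0e8360c82e0a8260881e068160480e02806007fdfe7f5fc7edfa7e5f87ddf67d5f47cdf27c5f07bdee7b5ec7adea7a5e879de6795e478de2785e077dde775dc76dda765d875dd6755d474dd2745d073dce735cc72dca725c871dc6715c470dc27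05c06fdbe6f5bc6edba6e5b86ddb66d5b46cdb26c5b06bdae6b5ac6adaa6a5a869da6695a468da2685a067d9e6759c66d9a6659865d966559464d926459063d8e6358c62d8a6258861d866158460d82605805fd7e5f57c5ed7a5e5785dd765d5745cd725c5705bd6e5b56c5ad6a5a56859d665956458d625856057d5e5755c56d5a5655855d565555454d525455053d4e5354c52d4a5254851d465154450d42505404fd3e4f53c4ed3a4e5384dd364d5344cd324c5304bd2e4b52c4ad2a4a52849d264952448d224852047d1e4751c46d1a4651845d164551444d124451043d0e4350c42d0a4250841d064150440d02405003fcfe3f4fc3ecfa3e4f83dcf63d4f43ccf23c4f03bcee3b4ec3acea3a4e839ce6394e438ce2384e037cde374dc36cda364d835cd6354d434cd2344d033cce334cc32cca324c831cc6314c430cc2304c02fcbe2f4bc2ecba2e4b82dcb62d4b42ccb22c4b02bcae2b4ac2acaa2a4a829ca6294a428ca2284a027c9e2749c26c9a2649825c962549424c922449023c8e2348c22c8a2248821c862148420c82204801fc7e1f47c1ec7a1e4781dc761d4741cc721c4701bc6e1b46c1ac6a1a46819c661946418c621846017c5e1745c16c5a1645815c561545414c521445013c4e1344c12c4a1244811c461144410c42104400fc3e0f43c0ec3a0e4380dc360d4340cc320c4300bc2e0b42c0ac2a0a42809c260942408c220842007c1e0741c06c1a0641805c160541404c120441003c0e0340c02c0a0240801c060140400c0200400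
noncomputable def P7_10 (u : Nat) : Nat := Nat.land (Nat.shiftRight P7_10Lit (Nat.mul 10 u)) 1023
theorem img7_10_c0 : allPow 702 (fun u => Nat.blt (P7_10 u) 702 && imgEq Y7 cf7 10 u (P7_10 u)) 6 0 = true := by decide +kernel
theorem img7_10_c1 : allPow 702 (fun u => Nat.blt (P7_10 u) 702 && imgEq Y7 cf7 10 u (P7_10 u)) 6 64 = true := by decide +kernel
theorem img7_10_c2 : allPow 702 (fun u => Nat.blt (P7_10 u) 702 && imgEq Y7 cf7 10 u (P7_10 u)) 6 128 = true := by decide +kernel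
theorem img7_10_c3 : allPow 702 (fun u => Nat.blt (P7_10 u) 702 && imgEq Y7 cf7 10 u (P7_10 u)) 6 192 = true := by decide +kernel
theorem img7_10_c4 : allPow 702 (fun u => Nat.blt (P7_10 u) 702 && imgEq Y7 cf7 10 u (P7_10 u)) 6 256 = true := by decide +kernel
theorem img7_10_c5 : allPow 702 (fun u => Nat.blt (P7_10 u) 702 && imgEq Y7 cf7 10 u (P7_10 u)) 6 320 = true := by decide +kernel
theorem img7_10_c6 : allPow 702 (fun u => Nat.blt (P7_10 u) 702 && imgEq Y7 cf7 10 u (P7_10 u)) 6 384 = true := by decide +kernel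
theorem img7_10_c7 : allPow 702 (fun u => Nat.blt (P7_10 u) 702 && imgEq Y7 cf7 10 u (P7_10 u)) 6 448 = true := by decide +kernel
theorem img7_10_c8 : allPow 702 (fun u => Nat.blt (P7_10 u) 702 && imgEq Y7 cf7 10 u (P7_10 u)) 6 512 = true := by decide +kernel
theorem img7_10_c9 : allPow 702 (fun u => Nat.blt (P7_10 u) 702 && imgEq Y7 cf7 10 u (P7_10 u)) 6 576 = true := by decide +kernel
theorem img7_10_c10 : allPow 702 (fun u => Nat.blt (P7_10 u) 702 && imgEq Y7 cf7 10 u (P7_10 u)) 6 640 = true := by decide +kernel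
theorem img7_10 : allBelow 10 702 (fun u => Nat.blt (P7_10 u) 702 && imgEq Y7 cf7 10 u (P7_10 u)) = true :=
  allBelow_of_upto (hi := 704)
    (Upto.trans (mid := 320) (Upto.trans (mid := 128) (Upto.trans (mid := 64) ((Upto.of_pow img7_10_c0 (Nat.le_refl _)) : Upto _ _ 0 (0 + 2 ^ 6))
    ((Upto.of_pow img7_10_c1 (Nat.le_refl _)) : Upto _ _ 64 (64 + 2 ^ 6)))
    (Upto.trans (mid := 192) ((Upto.of_pow img7_10_c2 (Nat.le_refl _)) : Upto _ _ 128 (128 + 2 ^ 6))
    (Upto.trans (mid := 256) ((Upto.of_pow img7_10_c3 (Nat.le_refl _)) : Upto _ _ 192 (192 + 2 ^ 6))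
    ((Upto.of_pow img7_10_c4 (Nat.le_refl _)) : Upto _ _ 256 (256 + 2 ^ 6)))))
    (Upto.trans (mid := 512) (Upto.trans (mid := 384) ((Upto.of_pow img7_10_c5 (Nat.le_refl _)) : Upto _ _ 320 (320 + 2 ^ 6))
    (Upto.trans (mid := 448) ((Upto.of_pow img7_10_c6 (Nat.le_refl _)) : Upto _ _ 384 (384 + 2 ^ 6))
    ((Upto.of_pow img7_10_c7 (Nat.le_refl _)) : Upto _ _ 448 (448 + 2 ^ 6))))
    (Upto.trans (mid := 576) ((Upto.of_pow img7_10_c8 (Nat.le_refl _)) : Upto _ _ 512 (512 + 2 ^ 6))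
    (Upto.trans (mid := 640) ((Upto.of_pow img7_10_c9 (Nat.le_refl _)) : Upto _ _ 576 (576 + 2 ^ 6))
    ((Upto.of_pow img7_10_c10 (Nat.le_refl _)) : Upto _ _ 640 (640 + 2 ^ 6))))))
    (by decide) (by decide)

theorem id7_10 : allBelow 10 702 (fun u => Nat.beq (P7_10 u) u) = true := by decide +kernel

def P7_16Lit : Nat := 0xad2b2aceb5adab7ae2b9aeabdaeebca92a3a7e9ba6a99a6297a5a95a5293a4ab1ac29ca769eabea0a86a2abaadab2abaaaa9aa2a7a9aa59fe7e9ea799e2769d2739c6709be6e9b66c9ae6a9a668a46909ca759de8fa3a8d9ee8c9f28ba2a7da2688a1e86a1684a0e82a068094a519424f9364791a459124390a419023f8fa3d8f23b8ea398e26799a659924898e4992a4b9324e98a619825f97a5d9725b96a599625795a559525386a198621785a158521384a1083e0c82e0a8260881e068160480e0280600789e18360e846378da358d2338ca318c22f86e2e8b61c8762c8ae2a8a62889e268962488e2288620779dd765d5751d3749d1741cf739cd731cb729c9721c7719c5711c3709c1701bf6f9bd6f21f8799e675ff7f9d675dd87f5da76ddc7f1fb7e9f97e1f77d9f57d1f37c9f17c1ef7b9ed7b1eb7a9e97a1e7799e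5791e366999661976599565193649916418f6398d6318b62989621876198561183609816017f5f9e077d65591bb6e9b96e1b76d9b56d1b36c9b16c1af6b9ad6b1ab6a9a96a1a7699a5691a3689a16819f5815f5795d5715b56959561575595555153549515414f5394d5314b529496719b4d1334c97d5f17b5e9795e1775d9755d1735c9715c16f5b96d5b16b5a9695a1675992e4b52c4ad2a4a52849d264952448d224852047d1e4751c46d63589614250841d4851d465154450d42505404fd3e4f53c4ed3a4e5384dd364d50340901400ff3f8fd3f0fb3e8f93e0f73d8f53d0f34c5304bce438ce246919461174591545113449114410f4390d4310b428de374dc36cda364d835cd6354d434cd23450641504310c3308f23c4f03bcee3b4ec3acea3a4e839ce6394bc2ecba2e4b82dcb62d4b42ccb22c4e1380df298a5290a3278d033cce334cc32cca324c831cc63149b26899260972589525093248c1300bf2f88922087218bd2007f2c0af2b8ad2b0ab2a8a92a0a71e4781dc761d4741cc72288a12809f1a8691a0671989d270611805f1785d2449023c8e2348c22c8a15c561545414c5214485210832088112c4a124481f87d1f07b1e843108411003f1c4701bc6e1b46c1ac390e0370d8351946418c620bc2e0b42c1705b16859160290a027098251404f1384d130220842007c1b11c4611444064180f83d0f03b0e816054340cc320c413048110c00e0ac2a0302408c0b0781d0700a0241a018170501003c0400c0d0040801c0001402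
noncomputable def P7_16 (u : Nat) : Nat := Nat.land (Nat.shiftRight P7_16Lit (Nat.mul 10 u)) 1023
theorem img7_16_c0 : allPow 702 (fun u => Nat.blt (P7_16 u) 702 && imgEq Y7 cf7 16 u (P7_16 u)) 6 0 = true := by decide +kernel
theorem img7_16_c1 : allPow 702 (fun u => Nat.blt (P7_16 u) 702 && imgEq Y7 cf7 16 u (P7_16 u)) 6 64 = true := by decide +kernel
theorem img7_16_c2 : allPow 702 (fun u => Nat.blt (P7_16 u) 702 && imgEq Y7 cf7 16 u (P7_16 u)) 6 128 = true := by decide +kernel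
theorem img7_16_c3 : allPow 702 (fun u => Nat.blt (P7_16 u) 702 && imgEq Y7 cf7 16 u (P7_16 u)) 6 192 = true := by decide +kernel
theorem img7_16_c4 : allPow 702 (fun u => Nat.blt (P7_16 u) 702 && imgEq Y7 cf7 16 u (P7_16 u)) 6 256 = true := by decide +kernel
theorem img7_16_c5 : allPow 702 (fun u => Nat.blt (P7_16 u) 702 && imgEq Y7 cf7 16 u (P7_16 u)) 6 320 = true := by decide +kernel
theorem img7_16_c6 : allPow 702 (fun u => Nat.blt (P7_16 u) 702 && imgEq Y7 cf7 16 u (P7_16 u)) 6 384 = true := by decide +kernel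
theorem img7_16_c7 : allPow 702 (fun u => Nat.blt (P7_16 u) 702 && imgEq Y7 cf7 16 u (P7_16 u)) 6 448 = true := by decide +kernel
theorem img7_16_c8 : allPow 702 (fun u => Nat.blt (P7_16 u) 702 && imgEq Y7 cf7 16 u (P7_16 u)) 6 512 = true := by decide +kernel
theorem img7_16_c9 : allPow 702 (fun u => Nat.blt (P7_16 u) 702 && imgEq Y7 cf7 16 u (P7_16 u)) 6 576 = true := by decide +kernel
theorem img7_16_c10 : allPow 702 (fun u => Nat.blt (P7_16 u) 702 && imgEq Y7 cf7 16 u (P7_16 u)) 6 640 = true := by decide +kernel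
theorem img7_16 : allBelow 10 702 (fun u => Nat.blt (P7_16 u) 702 && imgEq Y7 cf7 16 u (P7_16 u)) = true :=
  allBelow_of_upto (hi := 704)
    (Upto.trans (mid := 320) (Upto.trans (mid := 128) (Upto.trans (mid := 64) ((Upto.of_pow img7_16_c0 (Nat.le_refl _)) : Upto _ _ 0 (0 + 2 ^ 6))
    ((Upto.of_pow img7_16_c1 (Nat.le_refl _)) : Upto _ _ 64 (64 + 2 ^ 6)))
    (Upto.trans (mid := 192) ((Upto.of_pow img7_16_c2 (Nat.le_refl _)) : Upto _ _ 128 (128 + 2 ^ 6))
    (Upto.trans (mid := 256) ((Upto.of_pow img7_16_c3 (Nat.le_refl _)) : Upto _ _ 192 (192 + 2 ^ 6))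
    ((Upto.of_pow img7_16_c4 (Nat.le_refl _)) : Upto _ _ 256 (256 + 2 ^ 6)))))
    (Upto.trans (mid := 512) (Upto.trans (mid := 384) ((Upto.of_pow img7_16_c5 (Nat.le_refl _)) : Upto _ _ 320 (320 + 2 ^ 6))
    (Upto.trans (mid := 448) ((Upto.of_pow img7_16_c6 (Nat.le_refl _)) : Upto _ _ 384 (384 + 2 ^ 6))
    ((Upto.of_pow img7_16_c7 (Nat.le_refl _)) : Upto _ _ 448 (448 + 2 ^ 6))))
    (Upto.trans (mid := 576) ((Upto.of_pow img7_16_c8 (Nat.le_refl _)) : Upto _ _ 512 (512 + 2 ^ 6))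
    (Upto.trans (mid := 640) ((Upto.of_pow img7_16_c9 (Nat.le_refl _)) : Upto _ _ 576 (576 + 2 ^ 6))
    ((Upto.of_pow img7_16_c10 (Nat.le_refl _)) : Upto _ _ 640 (640 + 2 ^ 6))))))
    (by decide) (by decide)

theorem count7_16 : countLab 10 702 (fun w => bif Nat.beq (P7_16 w) w then 1 else 0) 1 = 0 := by decide +kernel
def P7_19Lit : Nat := 0xabaacab6b0ac6afa7ea4a8e9ba6a99ae6baae2bdaeebca468ba3e87a2286a4ab6ad68ca368eade799e276ad2b3aca7f9d27a9be709baa5aae7eaa6a0a86a2aaa6097aa7aa2a699e619665895e68a629097e6293696a7a9d98e9c91e979164490e94a569394a468fa3d8f280a16519424f9de7ca128a9f6898b22b8aa29a0e82a0635896248e26d99a659922f9ee308c61484e129d66c9ce729c60c82e0a8266b9aa69862058125386a1995a1785a1592e4c939f47ce5d9725b969ed7b1eb956547f1e879e0078de17c5f2776378da3b8d2338ca4a926487f9cd731cb72a42906408fdc6715c48ea39755c17022077a116e623751d3749d1741cf73a2e8b61c875aa6a5a88a227899a569222885a26f99f87dbc8799e675ff86db66ddb8661976599580dfb7e9f97e1f77d9f58420f83a0d6258861e08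81e066118380a01605e55f9e2669997f5da76ddc5e9795e1916418f6398d6318b629f07bdee5b56c7a9e95a9e65a166791e077d65591bb6e9d9761d77595d5715b6c9b16c1af6b9ad6b1ab725c871d5053dc37094d6fd4b525bd5815f579b56d1b3511435615755955551535495169da64e9a34e1a14d5a06719b4d1334c97d5f17b651936492a4a5755d1735c9715c16f5b986615206091e6011b5fd2e4b52c4ad775d91549d264952448d224856b4396942d0a59d63589614250841d4851d465155a564fe505404fd3e4f53c4ed4e3dd4c3d0f35290340901400ff508ee3f0fb3e8f93e139398e54dd364c5304bce438ce246919461174592836913449114410f47cd23451d470de374dc36d1432cd835cd6354c63150d4310641504310c32f8f23c4f03bcfd2dcec3acea3a4b22c4f63d4bc2ecba2e4ac3b4b62a4b429ce839ce1380a3298a527cdf278d033cce33497364ca250c8248d434c9b26899234cc2588b3248a31cc1300863088920c812fcbd1f07f2c0af2b8752e0ab1ccb51c8b31e4781b86d2b46b2a8a828868198a41a863284622805f2707e1689d1785d2449015053260512549315c4f1348f2384c2308512488120871184521082184412007b1e83d0f07d1003f1c4380d8771d8351d0331c0321bc6c0b82d1a4670ac651902c0a02718059160241705b0982508456080551481d1404e07c1a0644b1284411c18058431083b0e83e054120e4370c4100d011038300bc2a0302908c0b028220701e0241b018170501303c0400c0d0040801c0001402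
noncomputable def P7_19 (u : Nat) : Nat := Nat.land (Nat.shiftRight P7_19Lit (Nat.mul 10 u)) 1023
theorem img7_19_c0 : allPow 702 (fun u => Nat.blt (P7_19 u) 702 && imgEq Y7 cf7 19 u (P7_19 u)) 6 0 = true := by decide +kernel
theorem img7_19_c1 : allPow 702 (fun u => Nat.blt (P7_19 u) 702 && imgEq Y7 cf7 19 u (P7_19 u)) 6 64 = true := by decide +kernel
theorem img7_19_c2 : allPow 702 (fun u => Nat.blt (P7_19 u) 702 && imgEq Y7 cf7 19 u (P7_19 u)) 6 128 = true := by decide +kernel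
theorem img7_19_c3 : allPow 702 (fun u => Nat.blt (P7_19 u) 702 && imgEq Y7 cf7 19 u (P7_19 u)) 6 192 = true := by decide +kernel
theorem img7_19_c4 : allPow 702 (fun u => Nat.blt (P7_19 u) 702 && imgEq Y7 cf7 19 u (P7_19 u)) 6 256 = true := by decide +kernel
theorem img7_19_c5 : allPow 702 (fun u => Nat.blt (P7_19 u) 702 && imgEq Y7 cf7 19 u (P7_19 u)) 6 320 = true := by decide +kernel
theorem img7_19_c6 : allPow 702 (fun u => Nat.blt (P7_19 u) 702 && imgEq Y7 cf7 19 u (P7_19 u)) 6 384 = true := by decide +kernel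
theorem img7_19_c7 : allPow 702 (fun u => Nat.blt (P7_19 u) 702 && imgEq Y7 cf7 19 u (P7_19 u)) 6 448 = true := by decide +kernel
theorem img7_19_c8 : allPow 702 (fun u => Nat.blt (P7_19 u) 702 && imgEq Y7 cf7 19 u (P7_19 u)) 6 512 = true := by decide +kernel
theorem img7_19_c9 : allPow 702 (fun u => Nat.blt (P7_19 u) 702 && imgEq Y7 cf7 19 u (P7_19 u)) 6 576 = true := by decide +kernel
theorem img7_19_c10 : allPow 702 (fun u => Nat.blt (P7_19 u) 702 && imgEq Y7 cf7 19 u (P7_19 u)) 6 640 = true := by decide +kernel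
theorem img7_19 : allBelow 10 702 (fun u => Nat.blt (P7_19 u) 702 && imgEq Y7 cf7 19 u (P7_19 u)) = true :=
  allBelow_of_upto (hi := 704)
    (Upto.trans (mid := 320) (Upto.trans (mid := 128) (Upto.trans (mid := 64) ((Upto.of_pow img7_19_c0 (Nat.le_refl _)) : Upto _ _ 0 (0 + 2 ^ 6))
    ((Upto.of_pow img7_19_c1 (Nat.le_refl _)) : Upto _ _ 64 (64 + 2 ^ 6)))
    (Upto.trans (mid := 192) ((Upto.of_pow img7_19_c2 (Nat.le_refl _)) : Upto _ _ 128 (128 + 2 ^ 6))
    (Upto.trans (mid := 256) ((Upto.of_pow img7_19_c3 (Nat.le_refl _)) : Upto _ _ 192 (192 + 2 ^ 6))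
    ((Upto.of_pow img7_19_c4 (Nat.le_refl _)) : Upto _ _ 256 (256 + 2 ^ 6)))))
    (Upto.trans (mid := 512) (Upto.trans (mid := 384) ((Upto.of_pow img7_19_c5 (Nat.le_refl _)) : Upto _ _ 320 (320 + 2 ^ 6))
    (Upto.trans (mid := 448) ((Upto.of_pow img7_19_c6 (Nat.le_refl _)) : Upto _ _ 384 (384 + 2 ^ 6))
    ((Upto.of_pow img7_19_c7 (Nat.le_refl _)) : Upto _ _ 448 (448 + 2 ^ 6))))
    (Upto.trans (mid := 576) ((Upto.of_pow img7_19_c8 (Nat.le_refl _)) : Upto _ _ 512 (512 + 2 ^ 6))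
    (Upto.trans (mid := 640) ((Upto.of_pow img7_19_c9 (Nat.le_refl _)) : Upto _ _ 576 (576 + 2 ^ 6))
    ((Upto.of_pow img7_19_c10 (Nat.le_refl _)) : Upto _ _ 640 (640 + 2 ^ 6))))))
    (by decide) (by decide)

def r7 : List (Gen × Bool) := [(.h, true), (.i, true), (.d, true), (.h, true), (.c, true), (.d, true), (.b, true), (.c, true), (.b, true), (.c, true), (.b, true), (.d, true), (.c, true), (.h, true), (.d, true), (.i, true), (.h, true)]
theorem rEq7_c0 : allPow 702 (fun u => Nat.beq (P7_19 u) (trace (wordTabs tabs r7) u)) 9 0 = true := by decide +kernel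
theorem rEq7_c1 : allPow 702 (fun u => Nat.beq (P7_19 u) (trace (wordTabs tabs r7) u)) 9 512 = true := by decide +kernel
theorem rEq7 : allBelow 10 702 (fun u => Nat.beq (P7_19 u) (trace (wordTabs tabs r7) u)) = true :=
  allBelow_of_upto (hi := 1024)
    (Upto.trans (mid := 512) ((Upto.of_pow rEq7_c0 (Nat.le_refl _)) : Upto _ _ 0 (0 + 2 ^ 9))
    ((Upto.of_pow rEq7_c1 (Nat.le_refl _)) : Upto _ _ 512 (512 + 2 ^ 9)))
    (by decide) (by decide)

def P7_30Lit : Nat := 0xa6e99a6aa3a929fabeb1ac2aeab6acadab5adeb4aceb29fe749ea6f9c26ea96b9aea769e279ae28ea368caf6bbaf291a2e8fa1e88a1a92a6290a5a9ea769ca5e4590e94a569394a468fa3d8f280aae7e9124798ea9a82a1936a298aaa9825f97aa7aa2a699e619665895e689b666996649ee759b2739ca718320b82a099ae6a9a6188160494e859465093e129de13852318c22f9f284a2a7da262c8ae2a8a683a0a818d625892388de368ee348ce3292a49921cd73242906408fdc6715c48ea39755c1702206f21e729cb7fa1a8665685e168564b9324e775f47cdf27c65d9725b969ed7b1eb956547f1e879e007fe1b662037edfa7e5f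87ddf67d61083e0e8358962187822078198460e02805817957e789e3785e077dde84595659976e5b86ddb688dd474dd2745d073dce8ba2d8721d6a9a96a22889e26695a488a21689be67e1f6edba765d875dd65755c56db26c5b06bdae6b5ac6adc9721c75414f70dc2535bf52d496f59e6759c66d9a665fd769db7717a5e5786459063d8e6358c62d8a7c1ef7b96d5b1ea7a56a79968599e45f57c5ed9464d924a9295d5745cd725c5705bd6e61985481824798046d7f5956458d625856057d5e6d5b46cd4450d5855d565555454d52545a76993a68d38685356814851d465155a564fe505404fd3e4f53c4ed4e3dd4c3d0f3529344cd324c5304bd2e4b52c4ad775d91549d264952448d224856b4396942d0a59d1a4651845d164a0da44d124451043d1f348d14751c4250841d064150440d02405003fd423b8fc3ecfa3e4f84e4e6395374d8f23c4f03bcfd2dcec3acea3a4b22c4f63d4e438ce2384e028cde374dc36d1432cd835cd6354c63150d430d033cce33497364ca250c8248d434cc430cbe304c0218c22f4bc2ecba2e4ac3b4b62a4b429ce839cb02bcae1d4b82ac732d4722cca62949f37ca21a0662909e17c9c26c9a2648d3309622cc9228c72449015053260512549322483204bf214492204821c7c1fc61104801ec7a1e4781b86d2b46b2a8a81c4380d8771d8351d06a18ca1188a00b82d1a4671f85a2745e1742809c601645815c4f1348f2384c23021158201545211845210820644b128440f43c1f4400fc1610c420ec3a0cc700c86f1b0120e4370c40e0ac651902c0bc2a0905c16c260942908c1d1404e07c0a0881c0681b11c1805c3e05414040340441303c300340c02c1e0240801c060140400c0200400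
noncomputable def P7_30 (u : Nat) : Nat := Nat.land (Nat.shiftRight P7_30Lit (Nat.mul 10 u)) 1023
theorem img7_30_c0 : allPow 702 (fun u => Nat.blt (P7_30 u) 702 && imgEq Y7 cf7 30 u (P7_30 u)) 6 0 = true := by decide +kernel
theorem img7_30_c1 : allPow 702 (fun u => Nat.blt (P7_30 u) 702 && imgEq Y7 cf7 30 u (P7_30 u)) 6 64 = true := by decide +kernel
theorem img7_30_c2 : allPow 702 (fun u => Nat.blt (P7_30 u) 702 && imgEq Y7 cf7 30 u (P7_30 u)) 6 128 = true := by decide +kernel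
theorem img7_30_c3 : allPow 702 (fun u => Nat.blt (P7_30 u) 702 && imgEq Y7 cf7 30 u (P7_30 u)) 6 192 = true := by decide +kernel
theorem img7_30_c4 : allPow 702 (fun u => Nat.blt (P7_30 u) 702 && imgEq Y7 cf7 30 u (P7_30 u)) 6 256 = true := by decide +kernel
theorem img7_30_c5 : allPow 702 (fun u => Nat.blt (P7_30 u) 702 && imgEq Y7 cf7 30 u (P7_30 u)) 6 320 = true := by decide +kernel
theorem img7_30_c6 : allPow 702 (fun u => Nat.blt (P7_30 u) 702 && imgEq Y7 cf7 30 u (P7_30 u)) 6 384 = true := by decide +kernel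
theorem img7_30_c7 : allPow 702 (fun u => Nat.blt (P7_30 u) 702 && imgEq Y7 cf7 30 u (P7_30 u)) 6 448 = true := by decide +kernel
theorem img7_30_c8 : allPow 702 (fun u => Nat.blt (P7_30 u) 702 && imgEq Y7 cf7 30 u (P7_30 u)) 6 512 = true := by decide +kernel
theorem img7_30_c9 : allPow 702 (fun u => Nat.blt (P7_30 u) 702 && imgEq Y7 cf7 30 u (P7_30 u)) 6 576 = true := by decide +kernel
theorem img7_30_c10 : allPow 702 (fun u => Nat.blt (P7_30 u) 702 && imgEq Y7 cf7 30 u (P7_30 u)) 6 640 = true := by decide +kernel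
theorem img7_30 : allBelow 10 702 (fun u => Nat.blt (P7_30 u) 702 && imgEq Y7 cf7 30 u (P7_30 u)) = true :=
  allBelow_of_upto (hi := 704)
    (Upto.trans (mid := 320) (Upto.trans (mid := 128) (Upto.trans (mid := 64) ((Upto.of_pow img7_30_c0 (Nat.le_refl _)) : Upto _ _ 0 (0 + 2 ^ 6))
    ((Upto.of_pow img7_30_c1 (Nat.le_refl _)) : Upto _ _ 64 (64 + 2 ^ 6)))
    (Upto.trans (mid := 192) ((Upto.of_pow img7_30_c2 (Nat.le_refl _)) : Upto _ _ 128 (128 + 2 ^ 6))
    (Upto.trans (mid := 256) ((Upto.of_pow img7_30_c3 (Nat.le_refl _)) : Upto _ _ 192 (192 + 2 ^ 6))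
    ((Upto.of_pow img7_30_c4 (Nat.le_refl _)) : Upto _ _ 256 (256 + 2 ^ 6)))))
    (Upto.trans (mid := 512) (Upto.trans (mid := 384) ((Upto.of_pow img7_30_c5 (Nat.le_refl _)) : Upto _ _ 320 (320 + 2 ^ 6))
    (Upto.trans (mid := 448) ((Upto.of_pow img7_30_c6 (Nat.le_refl _)) : Upto _ _ 384 (384 + 2 ^ 6))
    ((Upto.of_pow img7_30_c7 (Nat.le_refl _)) : Upto _ _ 448 (448 + 2 ^ 6))))
    (Upto.trans (mid := 576) ((Upto.of_pow img7_30_c8 (Nat.le_refl _)) : Upto _ _ 512 (512 + 2 ^ 6))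
    (Upto.trans (mid := 640) ((Upto.of_pow img7_30_c9 (Nat.le_refl _)) : Upto _ _ 576 (576 + 2 ^ 6))
    ((Upto.of_pow img7_30_c10 (Nat.le_refl _)) : Upto _ _ 640 (640 + 2 ^ 6))))))
    (by decide) (by decide)

theorem count7_30 : countLab 10 702 (fun w => bif Nat.beq (P7_30 w) w then 1 else 0) 1 = 252 := by decide +kernel

def y13 : List (Gen × Bool) := [(.g, true), (.e, true), (.i, true), (.d, true), (.b, true), (.c, true), (.h, true), (.f, true)]
def Y13Lit : Nat := 0xa566dada4e73297aa9f3922a8ae68599eb180e06962adaca8660e8f9a26fad652a92018be0f88e2d84a2189a3da6abc9b9a49ea80a1eba749aa756b39a9c4a61c2a51c984dc0a06316be20aa6847e5898aa258d1fcaee8285deb816ab7a60aa9df08c1e79a61463a00a5a6c62aaca856aa35729fe7464649a798192e9cac1829c29f5baa5a6daba669d535969e15f5e95d5f1b755691a2db2932a068a4aa8aa368e88abd51a4aae5e23a8de3c901cd3c9b33fd763fa4f4eea6946438f95c91a2e8e5d36fa3b66cf49c9f77b55b9561a95e5b7d0de6491671959455d09f6644869399a5e9657998610951fa796569ed249f174479947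6e8e79ab8a319933a4d865d8831ec7ed8f3768a36abd5a52578e537916442d7e7da774f9c74f1209d53a489ee55d386d5d79e5bfade766e8ba98e3676a2c715d46c0f19cceead14c4fdbc8e1bd8a21c8ccea7c9bb86db96a6246792950a5fa26836d145559589714ba40ae6da35525324dd9f73cfb51a0883a16359cb66a1166188811e050d28912719ad934ad735d6415a27e26595861665851d91d6b6a170469136990e41d064b5b897607915149950f8251932cd17a1e24492c62de1242625398754d033f1853dd2f3914765e4289e603f6503e229408b7395c187dad7f9d9721de2d1ca67232288ef82da1759b14d46d512223d5ac87878550eb4c58c775fd7bdff321f159615224db8ad807719046c534aa02431184211053d1f49cd24117b7e25a124c6611772397f5c4d74249677c4d405303e56c4e541398e2579d18fc632c9a556876680b02956087472541ce2b0b928ce170ce83b4ab674364d0a92ec9b3017d8348a5b5f525ccd2f8c47a8d43652e634912058624d0a45c455888459d63250cf14420498550fd486b879199a72a0f34002d4cc69528e92c40e38cf61d5522e0a637c6b0c9401bc103b0af2d4581b8bd354c5069054348d5bccc304c21204f48c8521cdc4704a028d8268c91305723041138542783c0841c0ec5e188384f46a280f04d86429ce02f0e70c0682b4351c474168372d82404c5d09c33044261ec7e1cc041dc0b248c3340d306c83261112084615818328160787a1f0520947d1848b0208f0501d16c1f140403e8670b8700a89f2cc0d2842817c6c0e86027029048420c439164052a88631c06220191104b0f4231fc3e20001254220ac2c19403290151709d0d0072fc4703c430082f024170000c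
noncomputable def Y13 (u : Nat) : Nat := Nat.land (Nat.shiftRight Y13Lit (Nat.mul 10 u)) 1023
theorem yEq13 : allBelow 10 702 (fun u => Nat.beq (Y13 u) (trace (wordTabs tabs y13) u)) = true := by decide +kernel

def cfd13Lit : Nat := 0x6695416910a6851884a041420912652a65a6206829620a82a996050a244594954014206150542928aa06a1664415055002449818a6690245886600128146229a1aa00a0424a82a0585154254a661422a9542112506242a12a020004466a01a0464a962295840568918185456192811562089a66a452a04886824658a015296645404000411889950250898569116a480a9462424a8a921895154a512098699162924a015095850466a5841288916058016444a92866944a9518661891a8aa1688419062a9662a0a92998595414915a4586140a81a9282265692085118a42900a6221585265a215a892649528968aa8990661118140a8264a5621665024504196a4608822a9624a42681406149942a25021a06a460525414860264291a6a851a51551982648890a01506616a44a25959a018a181690188269589044115691858194280928668151a0125095890291642aa25142606668522a5924222282816a84a009120966555a825901261069a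0456152080050a516215162289206868286a86a0a102866a9458a6054648a96245551a18aa5690984a06426652845698604445050a55214018841a66aa95069808648259422a4a8410028168a44a8a4451842525052516254009862a5a91518649a849862aa826569522a415a1451492255191a268aaaa289098099225a80a861866084a41629a1490149956a5589904a46a00192456958a892619521924555066a5a84560a94a28a1846a898946515554518190198469501524926412160a4594a1881028012890aa292666a5a11855696a6485a526091a282a8802a18952945461606aa46545045aa55a0156a91982a2980a166050805008518154586665694892aa5a5661296864189450551005491a85a2a24a4255626a2822956a940a8492881451a180a66965655a02558050612444189595460984695601099852412011025459014a642145145a05148614428a2524059969a9aa501aa40a0921888246a6a89064896a9020664a1821022018a4a548a928808890262806411aa8289a66908696855582952018284125228a28a50a28a2a4689aa81616a1158510111806450260895505196658125a52aa905a84090520868540aa8404204411862999a252955554221a840604026088a505158946554406166048228055480810882249166651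a16aaaa811254809080190445a191180989065869145a12699284186a268869598142024a64210420568a900a1254862a6224064609a49628a5219661482495194496a6428241510a2a185a6416a515001586a6605120842a515801486a0511864810a4a11245004216960a881454929660a568a800a925664288419060a2149828406a182048528a5a28892610816148645914a0205a2681540204a592a0499614042261186090512864148095241084a145a598a85988a18040998251a42a26298a1404294650aa42456940594489854219a4a0204648904a84a9804a21911016454a6445240806641a258152061a21296a0a64845818a9680a6884621411826a2129221521590214498880a066a6912a9584412642494485a5416612284a1890a54585885961282241951216159412284265658855a922086624968288524605a8a4a44a68a68a11629a6889a68211400211869416412165165148a5444001544604a8004608688800282146818215942812894240026814001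
noncomputable def cfd13 (u : Nat) : Nat := Nat.land (Nat.shiftRight cfd13Lit (Nat.mul 14 u)) 16383
noncomputable def cf13 (w k : Nat) : Nat := Nat.land (Nat.shiftRight (cfd13 w) (Nat.mul 2 k)) 3
theorem cfOK13_c0 : allPow 702 (fun u => imgEq Y13 cf13 0 u u) 6 0 = true := by decide +kernel
theorem cfOK13_c1 : allPow 702 (fun u => imgEq Y13 cf13 0 u u) 6 64 = true := by decide +kernel
theorem cfOK13_c2 : allPow 702 (fun u => imgEq Y13 cf13 0 u u) 6 128 = true := by decide +kernel
theorem cfOK13_c3 : allPow 702 (fun u => imgEq Y13 cf13 0 u u) 6 192 = true := by decide +kernel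
theorem cfOK13_c4 : allPow 702 (fun u => imgEq Y13 cf13 0 u u) 6 256 = true := by decide +kernel
theorem cfOK13_c5 : allPow 702 (fun u => imgEq Y13 cf13 0 u u) 6 320 = true := by decide +kernel
theorem cfOK13_c6 : allPow 702 (fun u => imgEq Y13 cf13 0 u u) 6 384 = true := by decide +kernel
theorem cfOK13_c7 : allPow 702 (fun u => imgEq Y13 cf13 0 u u) 6 448 = true := by decide +kernel
theorem cfOK13_c8 : allPow 702 (fun u => imgEq Y13 cf13 0 u u) 6 512 = true := by decide +kernel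
theorem cfOK13_c9 : allPow 702 (fun u => imgEq Y13 cf13 0 u u) 6 576 = true := by decide +kernel
theorem cfOK13_c10 : allPow 702 (fun u => imgEq Y13 cf13 0 u u) 6 640 = true := by decide +kernel
theorem cfOK13 : allBelow 10 702 (fun u => imgEq Y13 cf13 0 u u) = true :=
  allBelow_of_upto (hi := 704)
    (Upto.trans (mid := 320) (Upto.trans (mid := 128) (Upto.trans (mid := 64) ((Upto.of_pow cfOK13_c0 (Nat.le_refl _)) : Upto _ _ 0 (0 + 2 ^ 6))
    ((Upto.of_pow cfOK13_c1 (Nat.le_refl _)) : Upto _ _ 64 (64 + 2 ^ 6)))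
    (Upto.trans (mid := 192) ((Upto.of_pow cfOK13_c2 (Nat.le_refl _)) : Upto _ _ 128 (128 + 2 ^ 6))
    (Upto.trans (mid := 256) ((Upto.of_pow cfOK13_c3 (Nat.le_refl _)) : Upto _ _ 192 (192 + 2 ^ 6))
    ((Upto.of_pow cfOK13_c4 (Nat.le_refl _)) : Upto _ _ 256 (256 + 2 ^ 6)))))
    (Upto.trans (mid := 512) (Upto.trans (mid := 384) ((Upto.of_pow cfOK13_c5 (Nat.le_refl _)) : Upto _ _ 320 (320 + 2 ^ 6))
    (Upto.trans (mid := 448) ((Upto.of_pow cfOK13_c6 (Nat.le_refl _)) : Upto _ _ 384 (384 + 2 ^ 6))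
    ((Upto.of_pow cfOK13_c7 (Nat.le_refl _)) : Upto _ _ 448 (448 + 2 ^ 6))))
    (Upto.trans (mid := 576) ((Upto.of_pow cfOK13_c8 (Nat.le_refl _)) : Upto _ _ 512 (512 + 2 ^ 6))
    (Upto.trans (mid := 640) ((Upto.of_pow cfOK13_c9 (Nat.le_refl _)) : Upto _ _ 576 (576 + 2 ^ 6))
    ((Upto.of_pow cfOK13_c10 (Nat.le_refl _)) : Upto _ _ 640 (640 + 2 ^ 6))))))
    (by decide) (by decide)

def S13 : List Nat := [0, 2, 97, 126]
theorem survOK13_c0 : allPow 702 (fun u => (bif imgEq Y13 cf13 u u 0 then Nat.beq u 0 || Nat.beq u 2 || Nat.beq u 97 || Nat.beq u 126 else true)) 6 0 = true := by decide +kernel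
theorem survOK13_c1 : allPow 702 (fun u => (bif imgEq Y13 cf13 u u 0 then Nat.beq u 0 || Nat.beq u 2 || Nat.beq u 97 || Nat.beq u 126 else true)) 6 64 = true := by decide +kernel
theorem survOK13_c2 : allPow 702 (fun u => (bif imgEq Y13 cf13 u u 0 then Nat.beq u 0 || Nat.beq u 2 || Nat.beq u 97 || Nat.beq u 126 else true)) 6 128 = true := by decide +kernel
theorem survOK13_c3 : allPow 702 (fun u => (bif imgEq Y13 cf13 u u 0 then Nat.beq u 0 || Nat.beq u 2 || Nat.beq u 97 || Nat.beq u 126 else true)) 6 192 = true := by decide +kernel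
theorem survOK13_c4 : allPow 702 (fun u => (bif imgEq Y13 cf13 u u 0 then Nat.beq u 0 || Nat.beq u 2 || Nat.beq u 97 || Nat.beq u 126 else true)) 6 256 = true := by decide +kernel
theorem survOK13_c5 : allPow 702 (fun u => (bif imgEq Y13 cf13 u u 0 then Nat.beq u 0 || Nat.beq u 2 || Nat.beq u 97 || Nat.beq u 126 else true)) 6 320 = true := by decide +kernel
theorem survOK13_c6 : allPow 702 (fun u => (bif imgEq Y13 cf13 u u 0 then Nat.beq u 0 || Nat.beq u 2 || Nat.beq u 97 || Nat.beq u 126 else true)) 6 384 = true := by decide +kernel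
theorem survOK13_c7 : allPow 702 (fun u => (bif imgEq Y13 cf13 u u 0 then Nat.beq u 0 || Nat.beq u 2 || Nat.beq u 97 || Nat.beq u 126 else true)) 6 448 = true := by decide +kernel
theorem survOK13_c8 : allPow 702 (fun u => (bif imgEq Y13 cf13 u u 0 then Nat.beq u 0 || Nat.beq u 2 || Nat.beq u 97 || Nat.beq u 126 else true)) 6 512 = true := by decide +kernel
theorem survOK13_c9 : allPow 702 (fun u => (bif imgEq Y13 cf13 u u 0 then Nat.beq u 0 || Nat.beq u 2 || Nat.beq u 97 || Nat.beq u 126 else true)) 6 576 = true := by decide +kernel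
theorem survOK13_c10 : allPow 702 (fun u => (bif imgEq Y13 cf13 u u 0 then Nat.beq u 0 || Nat.beq u 2 || Nat.beq u 97 || Nat.beq u 126 else true)) 6 640 = true := by decide +kernel
theorem survOK13 : allBelow 10 702 (fun u => (bif imgEq Y13 cf13 u u 0 then Nat.beq u 0 || Nat.beq u 2 || Nat.beq u 97 || Nat.beq u 126 else true)) = true :=
  allBelow_of_upto (hi := 704)
    (Upto.trans (mid := 320) (Upto.trans (mid := 128) (Upto.trans (mid := 64) ((Upto.of_pow survOK13_c0 (Nat.le_refl _)) : Upto _ _ 0 (0 + 2 ^ 6))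
    ((Upto.of_pow survOK13_c1 (Nat.le_refl _)) : Upto _ _ 64 (64 + 2 ^ 6)))
    (Upto.trans (mid := 192) ((Upto.of_pow survOK13_c2 (Nat.le_refl _)) : Upto _ _ 128 (128 + 2 ^ 6))
    (Upto.trans (mid := 256) ((Upto.of_pow survOK13_c3 (Nat.le_refl _)) : Upto _ _ 192 (192 + 2 ^ 6))
    ((Upto.of_pow survOK13_c4 (Nat.le_refl _)) : Upto _ _ 256 (256 + 2 ^ 6)))))
    (Upto.trans (mid := 512) (Upto.trans (mid := 384) ((Upto.of_pow survOK13_c5 (Nat.le_refl _)) : Upto _ _ 320 (320 + 2 ^ 6))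
    (Upto.trans (mid := 448) ((Upto.of_pow survOK13_c6 (Nat.le_refl _)) : Upto _ _ 384 (384 + 2 ^ 6))
    ((Upto.of_pow survOK13_c7 (Nat.le_refl _)) : Upto _ _ 448 (448 + 2 ^ 6))))
    (Upto.trans (mid := 576) ((Upto.of_pow survOK13_c8 (Nat.le_refl _)) : Upto _ _ 512 (512 + 2 ^ 6))
    (Upto.trans (mid := 640) ((Upto.of_pow survOK13_c9 (Nat.le_refl _)) : Upto _ _ 576 (576 + 2 ^ 6))
    ((Upto.of_pow survOK13_c10 (Nat.le_refl _)) : Upto _ _ 640 (640 + 2 ^ 6))))))
    (by decide) (by decide)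

def P13_0Lit : Nat := 0xaf6bcaeebaae6b8adeb6ad6b4aceb2ac6b0abeaeab6acaaeaaaa6a8a9ea6a96a4a8ea2a86a0a7e9ea769ca6e9aa6698a5e96a5694a4e92a4690a3e8ea368ca2e8aa2688a1e86a1684a0e82a06809fe7e9f67c9ee7a9e6789de769d6749ce729c6709be6e9b66c9ae6a9a66899e669966498e629866097e5e9765c96e5a9665895e569565494e529465093e4e9364c92e4a9264891e469164490e42906408fe3e8f63c8ee3a8e6388de368d6348ce328c6308be2e8b62c8ae2a8a62889e268962488e228862087e1e8761c86e1a8661885e168561484e128461083e0e8360c82e0a8260881e068160480e02806007fdfe7f5fc7edfa7e5f87ddf67d5f47cdf27c5f07bdee7b5ec7adea7a5e879de6795e478de2785e077dde775dc76dda765d875dd6755d474dd2745d073dce735cc72dca725c871dc6715c470dc2705c06fdbe6f5bc6edba6e5b86ddb66d5b46cdb26c5b06bdae6b5ac6adaa6a5a869da6695a468da2685a067d9e6759c66d9a6659865d966559464d926459063d8e6358c62d8a6258861d866158460d82605805fd7e5f57c5ed7a5e5785dd765d5745cd725c5705bd6e5b56c5ad6a5a56859d665956458d625856057d5e5755c56d5a5655855d565555454d525455053d4e5354c52d4a5254851d4651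54450d42505404fd3e4f53c4ed3a4e5384dd364d5344cd324c5304bd2e4b52c4ad2a4a52849d264952448d224852047d1e4751c46d1a4651845d164551444d124451043d0e4350c42d0a4250841d064150440d02405003fcfe3f4fc3ecfa3e4f83dcf63d4f43ccf23c4f03bcee3b4ec3acea3a4e839ce6394e438ce2384e037cde374dc36cda364d835cd6354d434cd2344d033cce334cc32cca324c831cc6314c430cc2304c02fcbe2f4bc2ecba2e4b82dcb62d4b42ccb22c4b02bcae2b4ac2acaa2a4a829ca6294a428ca2284a027c9e2749c26c9a2649825c962549424c922449023c8e2348c22c8a2248821c862148420c82204801fc7e1f47c1ec7a1e4781dc761d4741cc721c4701bc6e1b46c1ac6a1a46819c661946418c621846017c5e1745c16c5a1645815c561545414c521445013c4e1344c12c4a1244811c461144410c42104400fc3e0f43c0ec3a0e4380dc360d4340cc320c4300bc2e0b42c0ac2a0a42809c260942408c220842007c1e0741c06c1a0641805c160541404c120441003c0e0340c02c0a0240801c060140400c0200400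
noncomputable def P13_0 (u : Nat) : Nat := Nat.land (Nat.shiftRight P13_0Lit (Nat.mul 10 u)) 1023
theorem img13_0_c0 : allPow 702 (fun u => Nat.blt (P13_0 u) 702 && imgEq Y13 cf13 0 u (P13_0 u)) 6 0 = true := by decide +kernel
theorem img13_0_c1 : allPow 702 (fun u => Nat.blt (P13_0 u) 702 && imgEq Y13 cf13 0 u (P13_0 u)) 6 64 = true := by decide +kernel
theorem img13_0_c2 : allPow 702 (fun u => Nat.blt (P13_0 u) 702 && imgEq Y13 cf13 0 u (P13_0 u)) 6 128 = true := by decide +kernel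
theorem img13_0_c3 : allPow 702 (fun u => Nat.blt (P13_0 u) 702 && imgEq Y13 cf13 0 u (P13_0 u)) 6 192 = true := by decide +kernel
theorem img13_0_c4 : allPow 702 (fun u => Nat.blt (P13_0 u) 702 && imgEq Y13 cf13 0 u (P13_0 u)) 6 256 = true := by decide +kernel
theorem img13_0_c5 : allPow 702 (fun u => Nat.blt (P13_0 u) 702 && imgEq Y13 cf13 0 u (P13_0 u)) 6 320 = true := by decide +kernel
theorem img13_0_c6 : allPow 702 (fun u => Nat.blt (P13_0 u) 702 && imgEq Y13 cf13 0 u (P13_0 u)) 6 384 = true := by decide +kernel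
theorem img13_0_c7 : allPow 702 (fun u => Nat.blt (P13_0 u) 702 && imgEq Y13 cf13 0 u (P13_0 u)) 6 448 = true := by decide +kernel
theorem img13_0_c8 : allPow 702 (fun u => Nat.blt (P13_0 u) 702 && imgEq Y13 cf13 0 u (P13_0 u)) 6 512 = true := by decide +kernel
theorem img13_0_c9 : allPow 702 (fun u => Nat.blt (P13_0 u) 702 && imgEq Y13 cf13 0 u (P13_0 u)) 6 576 = true := by decide +kernel
theorem img13_0_c10 : allPow 702 (fun u => Nat.blt (P13_0 u) 702 && imgEq Y13 cf13 0 u (P13_0 u)) 6 640 = true := by decide +kernel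
theorem img13_0 : allBelow 10 702 (fun u => Nat.blt (P13_0 u) 702 && imgEq Y13 cf13 0 u (P13_0 u)) = true :=
  allBelow_of_upto (hi := 704)
    (Upto.trans (mid := 320) (Upto.trans (mid := 128) (Upto.trans (mid := 64) ((Upto.of_pow img13_0_c0 (Nat.le_refl _)) : Upto _ _ 0 (0 + 2 ^ 6))
    ((Upto.of_pow img13_0_c1 (Nat.le_refl _)) : Upto _ _ 64 (64 + 2 ^ 6)))
    (Upto.trans (mid := 192) ((Upto.of_pow img13_0_c2 (Nat.le_refl _)) : Upto _ _ 128 (128 + 2 ^ 6))
    (Upto.trans (mid := 256) ((Upto.of_pow img13_0_c3 (Nat.le_refl _)) : Upto _ _ 192 (192 + 2 ^ 6))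
    ((Upto.of_pow img13_0_c4 (Nat.le_refl _)) : Upto _ _ 256 (256 + 2 ^ 6)))))
    (Upto.trans (mid := 512) (Upto.trans (mid := 384) ((Upto.of_pow img13_0_c5 (Nat.le_refl _)) : Upto _ _ 320 (320 + 2 ^ 6))
    (Upto.trans (mid := 448) ((Upto.of_pow img13_0_c6 (Nat.le_refl _)) : Upto _ _ 384 (384 + 2 ^ 6))
    ((Upto.of_pow img13_0_c7 (Nat.le_refl _)) : Upto _ _ 448 (448 + 2 ^ 6))))
    (Upto.trans (mid := 576) ((Upto.of_pow img13_0_c8 (Nat.le_refl _)) : Upto _ _ 512 (512 + 2 ^ 6))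
    (Upto.trans (mid := 640) ((Upto.of_pow img13_0_c9 (Nat.le_refl _)) : Upto _ _ 576 (576 + 2 ^ 6))
    ((Upto.of_pow img13_0_c10 (Nat.le_refl _)) : Upto _ _ 640 (640 + 2 ^ 6))))))
    (by decide) (by decide)

theorem id13_0 : allBelow 10 702 (fun u => Nat.beq (P13_0 u) u) = true := by decide +kernel

def P13_2Lit : Nat := 0xad2b2aceb5adab7ae2b9aeabdaeebca92a3a7e9ba6a99a6297a5a95a5293a4ab1ac29ca769eabea0a86a2abaadab2abaaaa9aa2a7a9aa59fe7e9ea799e2769d2739c6709be6e9b66c9ae6a9a668a46909ca759de8fa3a8d9ee8c9f28ba2a7da2688a1e86a1684a0e82a068094a519424f9364791a459124390a419023f8fa3d8f23b8ea398e26799a659924898e4992a4b9324e98a619825f97a5d9725b96a599625795a559525386a198621785a158521384a1083e0c82e0a8260881e068160480e0280600789e18360e846378da358d2338ca318c22f86e2e8b61c8762c8ae2a8a62889e268962488e2288620779dd765d5751d3749d1741cf739cd731cb729c9721c7719c5711c3709c1701bf6f9bd6f21f8799e675ff7f9d675dd87f5da76ddc7f1fb7e9f97e1f77d9f57d1f37c9f17c1ef7b9ed7b1eb7a9e97a1e7799e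5791e366999661976599565193649916418f6398d6318b62989621876198561183609816017f5f9e077d65591bb6e9b96e1b76d9b56d1b36c9b16c1af6b9ad6b1ab6a9a96a1a7699a5691a3689a16819f5815f5795d5715b56959561575595555153549515414f5394d5314b529496719b4d1334c97d5f17b5e9795e1775d9755d1735c9715c16f5b96d5b16b5a9695a1675992e4b52c4ad2a4a52849d264952448d224852047d1e4751c46d63589614250841d4851d465154450d42505404fd3e4f53c4ed3a4e5384dd364d50340901400ff3f8fd3f0fb3e8f93e0f73d8f53d0f34c5304bce438ce246919461174591545113449114410f4390d4310b428de374dc36cda364d835cd6354d434cd23450641504310c3308f23c4f03bcee3b4ec3acea3a4e839ce6394bc2ecba2e4b82dcb62d4b42ccb22c4e1380df298a5290a3278d033cce334cc32cca324c831cc63149b26899260972589525093248c1300bf2f88922087218bd2007f2c0af2b8ad2b0ab2a8a92a0a71e4781dc761d4741cc72288a12809f1a8691a0671989d270611805f1785d2449023c8e2348c22c8a15c561545414c5214485210832088112c4a124481f87d1f07b1e843108411003f1c4701bc6e1b46c1ac390e0370d8351946418c620bc2e0b42c1705b16859160290a027098251404f1384d130220842007c1b11c4611444064180f83d0f03b0e816054340cc320c413048110c00e0ac2a0302408c0b0781d0700a0241a018170501003c0400c0d0040801c0001402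
noncomputable def P13_2 (u : Nat) : Nat := Nat.land (Nat.shiftRight P13_2Lit (Nat.mul 10 u)) 1023
theorem img13_2_c0 : allPow 702 (fun u => Nat.blt (P13_2 u) 702 && imgEq Y13 cf13 2 u (P13_2 u)) 6 0 = true := by decide +kernel
theorem img13_2_c1 : allPow 702 (fun u => Nat.blt (P13_2 u) 702 && imgEq Y13 cf13 2 u (P13_2 u)) 6 64 = true := by decide +kernel
theorem img13_2_c2 : allPow 702 (fun u => Nat.blt (P13_2 u) 702 && imgEq Y13 cf13 2 u (P13_2 u)) 6 128 = true := by decide +kernel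
theorem img13_2_c3 : allPow 702 (fun u => Nat.blt (P13_2 u) 702 && imgEq Y13 cf13 2 u (P13_2 u)) 6 192 = true := by decide +kernel
theorem img13_2_c4 : allPow 702 (fun u => Nat.blt (P13_2 u) 702 && imgEq Y13 cf13 2 u (P13_2 u)) 6 256 = true := by decide +kernel
theorem img13_2_c5 : allPow 702 (fun u => Nat.blt (P13_2 u) 702 && imgEq Y13 cf13 2 u (P13_2 u)) 6 320 = true := by decide +kernel
theorem img13_2_c6 : allPow 702 (fun u => Nat.blt (P13_2 u) 702 && imgEq Y13 cf13 2 u (P13_2 u)) 6 384 = true := by decide +kernel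
theorem img13_2_c7 : allPow 702 (fun u => Nat.blt (P13_2 u) 702 && imgEq Y13 cf13 2 u (P13_2 u)) 6 448 = true := by decide +kernel
theorem img13_2_c8 : allPow 702 (fun u => Nat.blt (P13_2 u) 702 && imgEq Y13 cf13 2 u (P13_2 u)) 6 512 = true := by decide +kernel
theorem img13_2_c9 : allPow 702 (fun u => Nat.blt (P13_2 u) 702 && imgEq Y13 cf13 2 u (P13_2 u)) 6 576 = true := by decide +kernel
theorem img13_2_c10 : allPow 702 (fun u => Nat.blt (P13_2 u) 702 && imgEq Y13 cf13 2 u (P13_2 u)) 6 640 = true := by decide +kernel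
theorem img13_2 : allBelow 10 702 (fun u => Nat.blt (P13_2 u) 702 && imgEq Y13 cf13 2 u (P13_2 u)) = true :=
  allBelow_of_upto (hi := 704)
    (Upto.trans (mid := 320) (Upto.trans (mid := 128) (Upto.trans (mid := 64) ((Upto.of_pow img13_2_c0 (Nat.le_refl _)) : Upto _ _ 0 (0 + 2 ^ 6))
    ((Upto.of_pow img13_2_c1 (Nat.le_refl _)) : Upto _ _ 64 (64 + 2 ^ 6)))
    (Upto.trans (mid := 192) ((Upto.of_pow img13_2_c2 (Nat.le_refl _)) : Upto _ _ 128 (128 + 2 ^ 6))
    (Upto.trans (mid := 256) ((Upto.of_pow img13_2_c3 (Nat.le_refl _)) : Upto _ _ 192 (192 + 2 ^ 6))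
    ((Upto.of_pow img13_2_c4 (Nat.le_refl _)) : Upto _ _ 256 (256 + 2 ^ 6)))))
    (Upto.trans (mid := 512) (Upto.trans (mid := 384) ((Upto.of_pow img13_2_c5 (Nat.le_refl _)) : Upto _ _ 320 (320 + 2 ^ 6))
    (Upto.trans (mid := 448) ((Upto.of_pow img13_2_c6 (Nat.le_refl _)) : Upto _ _ 384 (384 + 2 ^ 6))
    ((Upto.of_pow img13_2_c7 (Nat.le_refl _)) : Upto _ _ 448 (448 + 2 ^ 6))))
    (Upto.trans (mid := 576) ((Upto.of_pow img13_2_c8 (Nat.le_refl _)) : Upto _ _ 512 (512 + 2 ^ 6))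
    (Upto.trans (mid := 640) ((Upto.of_pow img13_2_c9 (Nat.le_refl _)) : Upto _ _ 576 (576 + 2 ^ 6))
    ((Upto.of_pow img13_2_c10 (Nat.le_refl _)) : Upto _ _ 640 (640 + 2 ^ 6))))))
    (by decide) (by decide)

theorem count13_2 : countLab 10 702 (fun w => bif Nat.beq (P13_2 w) w then 1 else 0) 1 = 0 := by decide +kernel
def P13_97Lit : Nat := 0xae2bcaeebaae6bdad2b6ad6b7aceb2ab6acabeaeac6b0aaea8aa6aaa9ea6a969aa66a2a7a9da7ea1a829ca6ea4a8e98a5696a5e94a4e92a2283a1a8ea368aa2e8ca2691a1e8fa1684a4282a06809c26b9f67b9f26e9e6789d6739de749da729c67f9be7a9b66c9fa6a9a668962599765598e6295e609725b9965f97a5a99a67986569925494e3d8fa428ea4e9364a9264c92e4891e3c9164190250912438fe5194a468ee4f8e6388ba2c892258a2228c6308b6378be368ae2a89e338a6268d23588e328862067da08761b87210832048160880a1484e0f83a1a84a118361982e0a81e168260685e1880e15806007f5fe7fde7799f47c1f87b5e87a9fa7cdf27bdf97c5ee7ddec7a5f57adf67f1fb795e478d7e5fd6659dd9775dc761d7779db769d6701bf735c9745c6705c374dcc72dc8749ca71dd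0715c2739c473dd5751be6f5bc6e5b56edb86ddb46e9b66cda2685b06a9a76b5a568daf6a5a66b9a86b1a46adb26c61e87d49529354dd986519a65d9664d99655926058063d896198c61182639886158d61d8b60d8a64590785e25f57a5dd7c5e5765ed785a1695cd725b56b5bd6a5c56c5c16e5d17577de046d1d4350a42d605755a57d5c5655e56d4b5315655550539525355453d53545575619d6794851d445094650d454e5364e13e4f53a4ed3c5053f66d40670f63ccf43b4e63952e4b52a4a12c4a52b47d1c4792448d204852249d25591265951a4511845d15459194390c4451043d1358d1258562364d2344cb314c640cfd405003f8ff408f73d4fa3e4f83f1343ed324ccf23b8f03bcf14c4e73a0ea3a4eb3b1304bcb72c4b22b0a72a4de368dc36cdd424d3350d6354d73610841cd0330ce334cf418c7324c83290441497248942348a22cbe2f4bc2e0ba2e4bb390b32d4b42d8e238cb02b4ae2bce12a0aa37cab380751c87328c6d1b86b27c9e0c49c26c982649a31093254c2258c32448e23c903048c2fcc014c541448613c4d20c4c2041f1fc02070441ec7a1e4761dc7829874290a51c0711bca12886c280380d8680d4660cc3218c62000110b05e1740503c2a1645815857154882245221c502144e210820842012448074461147c00409060400fc0801c170ec3a0e46a0dc6919c3419464274100482e0b45f0ac5a01003030260940d08c2212c4a2001e11c7d0281a064410f0060541404c2f1803016c0e0902702c1b1083e0f416170290a07e10c61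
noncomputable def P13_97 (u : Nat) : Nat := Nat.land (Nat.shiftRight P13_97Lit (Nat.mul 10 u)) 1023
theorem img13_97_c0 : allPow 702 (fun u => Nat.blt (P13_97 u) 702 && imgEq Y13 cf13 97 u (P13_97 u)) 6 0 = true := by decide +kernel
theorem img13_97_c1 : allPow 702 (fun u => Nat.blt (P13_97 u) 702 && imgEq Y13 cf13 97 u (P13_97 u)) 6 64 = true := by decide +kernel
theorem img13_97_c2 : allPow 702 (fun u => Nat.blt (P13_97 u) 702 && imgEq Y13 cf13 97 u (P13_97 u)) 6 128 = true := by decide +kernel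
theorem img13_97_c3 : allPow 702 (fun u => Nat.blt (P13_97 u) 702 && imgEq Y13 cf13 97 u (P13_97 u)) 6 192 = true := by decide +kernel
theorem img13_97_c4 : allPow 702 (fun u => Nat.blt (P13_97 u) 702 && imgEq Y13 cf13 97 u (P13_97 u)) 6 256 = true := by decide +kernel
theorem img13_97_c5 : allPow 702 (fun u => Nat.blt (P13_97 u) 702 && imgEq Y13 cf13 97 u (P13_97 u)) 6 320 = true := by decide +kernel
theorem img13_97_c6 : allPow 702 (fun u => Nat.blt (P13_97 u) 702 && imgEq Y13 cf13 97 u (P13_97 u)) 6 384 = true := by decide +kernel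
theorem img13_97_c7 : allPow 702 (fun u => Nat.blt (P13_97 u) 702 && imgEq Y13 cf13 97 u (P13_97 u)) 6 448 = true := by decide +kernel
theorem img13_97_c8 : allPow 702 (fun u => Nat.blt (P13_97 u) 702 && imgEq Y13 cf13 97 u (P13_97 u)) 6 512 = true := by decide +kernel
theorem img13_97_c9 : allPow 702 (fun u => Nat.blt (P13_97 u) 702 && imgEq Y13 cf13 97 u (P13_97 u)) 6 576 = true := by decide +kernel
theorem img13_97_c10 : allPow 702 (fun u => Nat.blt (P13_97 u) 702 && imgEq Y13 cf13 97 u (P13_97 u)) 6 640 = true := by decide +kernel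
theorem img13_97 : allBelow 10 702 (fun u => Nat.blt (P13_97 u) 702 && imgEq Y13 cf13 97 u (P13_97 u)) = true :=
  allBelow_of_upto (hi := 704)
    (Upto.trans (mid := 320) (Upto.trans (mid := 128) (Upto.trans (mid := 64) ((Upto.of_pow img13_97_c0 (Nat.le_refl _)) : Upto _ _ 0 (0 + 2 ^ 6))
    ((Upto.of_pow img13_97_c1 (Nat.le_refl _)) : Upto _ _ 64 (64 + 2 ^ 6)))
    (Upto.trans (mid := 192) ((Upto.of_pow img13_97_c2 (Nat.le_refl _)) : Upto _ _ 128 (128 + 2 ^ 6))
    (Upto.trans (mid := 256) ((Upto.of_pow img13_97_c3 (Nat.le_refl _)) : Upto _ _ 192 (192 + 2 ^ 6))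
    ((Upto.of_pow img13_97_c4 (Nat.le_refl _)) : Upto _ _ 256 (256 + 2 ^ 6)))))
    (Upto.trans (mid := 512) (Upto.trans (mid := 384) ((Upto.of_pow img13_97_c5 (Nat.le_refl _)) : Upto _ _ 320 (320 + 2 ^ 6))
    (Upto.trans (mid := 448) ((Upto.of_pow img13_97_c6 (Nat.le_refl _)) : Upto _ _ 384 (384 + 2 ^ 6))
    ((Upto.of_pow img13_97_c7 (Nat.le_refl _)) : Upto _ _ 448 (448 + 2 ^ 6))))
    (Upto.trans (mid := 576) ((Upto.of_pow img13_97_c8 (Nat.le_refl _)) : Upto _ _ 512 (512 + 2 ^ 6))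
    (Upto.trans (mid := 640) ((Upto.of_pow img13_97_c9 (Nat.le_refl _)) : Upto _ _ 576 (576 + 2 ^ 6))
    ((Upto.of_pow img13_97_c10 (Nat.le_refl _)) : Upto _ _ 640 (640 + 2 ^ 6))))))
    (by decide) (by decide)

def aL : List Nat := [0, 2, 0, 0, 2, 0, 1]
def bL : List Nat := [0, 2, 0, 1, 2, 0, 0]
noncomputable def bDot (u : Nat) : Nat := Nat.add (Nat.add (Nat.add (Nat.add (Nat.add (Nat.add (Nat.mul 0 (dig u 0)) (Nat.mul 2 (dig u 1))) (Nat.mul 0 (dig u 2))) (Nat.mul 1 (dig u 3))) (Nat.mul 2 (dig u 4))) (Nat.mul 0 (dig u 5))) (Nat.mul 0 (dig u 6))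
theorem refl13_c0 : allPow 702 (fun u => Nat.beq (Nat.mod (Nat.add (dig (P13_97 u) 0) (Nat.mul (bDot u) 0)) 3) (Nat.mod (dig u 0) 3) && Nat.beq (Nat.mod (Nat.add (dig (P13_97 u) 1) (Nat.mul (bDot u) 2)) 3) (Nat.mod (dig u 1) 3) && Nat.beq (Nat.mod (Nat.add (dig (P13_97 u) 2) (Nat.mul (bDot u) 0)) 3) (Nat.mod (dig u 2) 3) && Nat.beq (Nat.mod (Nat.add (dig (P13_97 u) 3) (Nat.mul (bDot u) 0)) 3) (Nat.mod (dig u 3) 3) && Nat.beq (Nat.mod (Nat.add (dig (P13_97 u) 4) (Nat.mul (bDot u) 2)) 3) (Nat.mod (dig u 4) 3) && Nat.beq (Nat.mod (Nat.add (dig (P13_97 u) 5) (Nat.mul (bDot u) 0)) 3) (Nat.mod (dig u 5) 3) && Nat.beq (Nat.mod (Nat.add (dig (P13_97 u) 6) (Nat.mul (bDot u) 1)) 3) (Nat.mod (dig u 6) 3)) 9 0 = true := by decide +kernel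
theorem refl13_c1 : allPow 702 (fun u => Nat.beq (Nat.mod (Nat.add (dig (P13_97 u) 0) (Nat.mul (bDot u) 0)) 3) (Nat.mod (dig u 0) 3) && Nat.beq (Nat.mod (Nat.add (dig (P13_97 u) 1) (Nat.mul (bDot u) 2)) 3) (Nat.mod (dig u 1) 3) && Nat.beq (Nat.mod (Nat.add (dig (P13_97 u) 2) (Nat.mul (bDot u) 0)) 3) (Nat.mod (dig u 2) 3) && Nat.beq (Nat.mod (Nat.add (dig (P13_97 u) 3) (Nat.mul (bDot u) 0)) 3) (Nat.mod (dig u 3) 3) && Nat.beq (Nat.mod (Nat.add (dig (P13_97 u) 4) (Nat.mul (bDot u) 2)) 3) (Nat.mod (dig u 4) 3) && Nat.beq (Nat.mod (Nat.add (dig (P13_97 u) 5) (Nat.mul (bDot u) 0)) 3) (Nat.mod (dig u 5) 3) && Nat.beq (Nat.mod (Nat.add (dig (P13_97 u) 6) (Nat.mul (bDot u) 1)) 3) (Nat.mod (dig u 6) 3)) 9 512 = true := by decide +kernel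
theorem refl13 : allBelow 10 702 (fun u => Nat.beq (Nat.mod (Nat.add (dig (P13_97 u) 0) (Nat.mul (bDot u) 0)) 3) (Nat.mod (dig u 0) 3) && Nat.beq (Nat.mod (Nat.add (dig (P13_97 u) 1) (Nat.mul (bDot u) 2)) 3) (Nat.mod (dig u 1) 3) && Nat.beq (Nat.mod (Nat.add (dig (P13_97 u) 2) (Nat.mul (bDot u) 0)) 3) (Nat.mod (dig u 2) 3) && Nat.beq (Nat.mod (Nat.add (dig (P13_97 u) 3) (Nat.mul (bDot u) 0)) 3) (Nat.mod (dig u 3) 3) && Nat.beq (Nat.mod (Nat.add (dig (P13_97 u) 4) (Nat.mul (bDot u) 2)) 3) (Nat.mod (dig u 4) 3) && Nat.beq (Nat.mod (Nat.add (dig (P13_97 u) 5) (Nat.mul (bDot u) 0)) 3) (Nat.mod (dig u 5) 3) && Nat.beq (Nat.mod (Nat.add (dig (P13_97 u) 6) (Nat.mul (bDot u) 1)) 3) (Nat.mod (dig u 6) 3)) = true :=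
  allBelow_of_upto (hi := 1024)
    (Upto.trans (mid := 512) ((Upto.of_pow refl13_c0 (Nat.le_refl _)) : Upto _ _ 0 (0 + 2 ^ 9))
    ((Upto.of_pow refl13_c1 (Nat.le_refl _)) : Upto _ _ 512 (512 + 2 ^ 9)))
    (by decide) (by decide)

def P13_126Lit : Nat := 0xadeb2aceb5adab4af6b9aeab8aeebca6a99a7e9ba92a3a6295a5a97a5293a4aadab29ca82a1abe9da7aa2abab1ac2abaa2a9aaaa7a9aa59c26b9ba799e2739d2769c67f9be7a9b66c9fa6a9a668a22839ca779d686a3a8d9f28a9ee8ba327da2691a1e8fa1684a4282a06808f63e90a3a936478f245906409424490e3f9465291a3b93e398e2589665d9564898e4b9324992a4e98a579825c96e6597e5e96a6699e6195a64952538420c81205822028521383e1a84a1982e0a81e168260685e1880e15806005f97f8361183a2e8b2248962888a318c22d872378be1b876368ae2a89e338a6268d23588e3288620765dd779c06fdcd725d1719c170dd3731cb721d2729c7741c5709ce711cf755d46f9bd6f19f68149529fd7f9d6769db7fdd7761dc79de67d1f07e1ed7a1ea7e9f37c9ef7e5f17b9f77b1e97d5eb7d9fc7ede5791e366194669976599366595649816018f62586631846098e621856358762d83629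91641e17896659d1b475b96d5bb6e1b76d1ba6d9b3689a16c1aa69dad695a36bda9699ae6a1ac691ab6c9b187a1f5815d5695f571595795b52d4c559555414e5494d5514f54d5155d586759e4d5373d8f33d17d5e9775f1795d97b5e1685a5735c96d5ad6f5a9715b1705b9745d5df7812e4b52a4a12c4a52b47d1c4792448d204852249d25591265950d4290b364d23454851d445094650d454e5364e13e4f53a4ed3c5053f66d40671033f501400fe3fd023dcf53e8f93e0fc4d0fb4c9333b4e6394b72c4b24691446117455164650e431114410f44d6344961588de368dc36cdd424d3350d6354d73610841ccb314c625c92250f23b8f03bcf14c4e73a0ea3a4eb3b1304bcbc2e0ba2e4bb390b32d4b42d8e238cac29ca91d4721cca3278d0330ce334cf418c7324c8329044149b26099268c424c953089630c8d2288b2f85315051218bd07c7f2c0ad2b8af384a82a8df2ace01e4761dc7829874290a51b46e1ac9f0e0361a03519831270000442c1785d2448e23c903048c2fcc015857154882245221c4f134831308108420124480081c1107b1e801024181003f1c0711bca12886c280391a8371a4670cc3218c620482e0b45f0140f0a8591600400c0c0982514085138842082212c4a2000a074461147c064410200705c3b0e8060543419464274130bc600400e0ac5a09c0d08c0b078471f41b1081a0583c0503016c290a02410c3e0f4611707e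
noncomputable def P13_126 (u : Nat) : Nat := Nat.land (Nat.shiftRight P13_126Lit (Nat.mul 10 u)) 1023
theorem img13_126_c0 : allPow 702 (fun u => Nat.blt (P13_126 u) 702 && imgEq Y13 cf13 126 u (P13_126 u)) 6 0 = true := by decide +kernel
theorem img13_126_c1 : allPow 702 (fun u => Nat.blt (P13_126 u) 702 && imgEq Y13 cf13 126 u (P13_126 u)) 6 64 = true := by decide +kernel
theorem img13_126_c2 : allPow 702 (fun u => Nat.blt (P13_126 u) 702 && imgEq Y13 cf13 126 u (P13_126 u)) 6 128 = true := by decide +kernel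
theorem img13_126_c3 : allPow 702 (fun u => Nat.blt (P13_126 u) 702 && imgEq Y13 cf13 126 u (P13_126 u)) 6 192 = true := by decide +kernel
theorem img13_126_c4 : allPow 702 (fun u => Nat.blt (P13_126 u) 702 && imgEq Y13 cf13 126 u (P13_126 u)) 6 256 = true := by decide +kernel
theorem img13_126_c5 : allPow 702 (fun u => Nat.blt (P13_126 u) 702 && imgEq Y13 cf13 126 u (P13_126 u)) 6 320 = true := by decide +kernel
theorem img13_126_c6 : allPow 702 (fun u => Nat.blt (P13_126 u) 702 && imgEq Y13 cf13 126 u (P13_126 u)) 6 384 = true := by decide +kernel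
theorem img13_126_c7 : allPow 702 (fun u => Nat.blt (P13_126 u) 702 && imgEq Y13 cf13 126 u (P13_126 u)) 6 448 = true := by decide +kernel
theorem img13_126_c8 : allPow 702 (fun u => Nat.blt (P13_126 u) 702 && imgEq Y13 cf13 126 u (P13_126 u)) 6 512 = true := by decide +kernel
theorem img13_126_c9 : allPow 702 (fun u => Nat.blt (P13_126 u) 702 && imgEq Y13 cf13 126 u (P13_126 u)) 6 576 = true := by decide +kernel
theorem img13_126_c10 : allPow 702 (fun u => Nat.blt (P13_126 u) 702 && imgEq Y13 cf13 126 u (P13_126 u)) 6 640 = true := by decide +kernel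
theorem img13_126 : allBelow 10 702 (fun u => Nat.blt (P13_126 u) 702 && imgEq Y13 cf13 126 u (P13_126 u)) = true :=
  allBelow_of_upto (hi := 704)
    (Upto.trans (mid := 320) (Upto.trans (mid := 128) (Upto.trans (mid := 64) ((Upto.of_pow img13_126_c0 (Nat.le_refl _)) : Upto _ _ 0 (0 + 2 ^ 6))
    ((Upto.of_pow img13_126_c1 (Nat.le_refl _)) : Upto _ _ 64 (64 + 2 ^ 6)))
    (Upto.trans (mid := 192) ((Upto.of_pow img13_126_c2 (Nat.le_refl _)) : Upto _ _ 128 (128 + 2 ^ 6))
    (Upto.trans (mid := 256) ((Upto.of_pow img13_126_c3 (Nat.le_refl _)) : Upto _ _ 192 (192 + 2 ^ 6))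
    ((Upto.of_pow img13_126_c4 (Nat.le_refl _)) : Upto _ _ 256 (256 + 2 ^ 6)))))
    (Upto.trans (mid := 512) (Upto.trans (mid := 384) ((Upto.of_pow img13_126_c5 (Nat.le_refl _)) : Upto _ _ 320 (320 + 2 ^ 6))
    (Upto.trans (mid := 448) ((Upto.of_pow img13_126_c6 (Nat.le_refl _)) : Upto _ _ 384 (384 + 2 ^ 6))
    ((Upto.of_pow img13_126_c7 (Nat.le_refl _)) : Upto _ _ 448 (448 + 2 ^ 6))))
    (Upto.trans (mid := 576) ((Upto.of_pow img13_126_c8 (Nat.le_refl _)) : Upto _ _ 512 (512 + 2 ^ 6))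
    (Upto.trans (mid := 640) ((Upto.of_pow img13_126_c9 (Nat.le_refl _)) : Upto _ _ 576 (576 + 2 ^ 6))
    ((Upto.of_pow img13_126_c10 (Nat.le_refl _)) : Upto _ _ 640 (640 + 2 ^ 6))))))
    (by decide) (by decide)

theorem count13_126 : countLab 10 702 (fun w => bif Nat.beq (P13_126 w) w then 1 else 0) 1 = 0 := by decide +kernel

end CfsgLib.SporRecognition.Cert.O7C
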