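import Cfsg.Agent.Lib.SporRecognition.Cert.Fi22O.Tables
import Cfsg.Agent.Lib.SporRecognition.Cert.Fi22U.Tables

/-! Generated: fixed points of elements of order 7 and 13 in Fi22. -/

set_option autoImplicit false
set_option maxRecDepth 20000
set_option linter.all false
set_option Elab.async false

namespace CfsgLib.SporRecognition.Cert.O7C

open CfsgLib.SporRecognition.CosetCert
open CfsgLib.SporRecognition.Cert

theorem fixO7_c0 : allPow 14080 (fun u => (bif Nat.beq (trace (wordTabs Fi22O.tabs ([(.b, true), (.c, true), (.d, true), (.e, true), (.f, true), (.g, true)] : List (Cfsg.Spor.Fi22.Gen × Bool))) u) u then Nat.beq u 0 || Nat.beq u 6142 || Nat.beq u 7141 else true)) 10 0 = true := by decide +kernel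
theorem fixO7_c1 : allPow 14080 (fun u => (bif Nat.beq (trace (wordTabs Fi22O.tabs ([(.b, true), (.c, true), (.d, true), (.e, true), (.f, true), (.g, true)] : List (Cfsg.Spor.Fi22.Gen × Bool))) u) u then Nat.beq u 0 || Nat.beq u 6142 || Nat.beq u 7141 else true)) 10 1024 = true := by decide +kernel
theorem fixO7_c2 : allPow 14080 (fun u => (bif Nat.beq (trace (wordTabs Fi22O.tabs ([(.b, true), (.c, true), (.d, true), (.e, true), (.f, true), (.g, true)] : List (Cfsg.Spor.Fi22.Gen × Bool))) u) u then Nat.beq u 0 || Nat.beq u 6142 || Nat.beq u 7141 else true)) 10 2048 = true := by decide +kernel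
theorem fixO7_c3 : allPow 14080 (fun u => (bif Nat.beq (trace (wordTabs Fi22O.tabs ([(.b, true), (.c, true), (.d, true), (.e, true), (.f, true), (.g, true)] : List (Cfsg.Spor.Fi22.Gen × Bool))) u) u then Nat.beq u 0 || Nat.beq u 6142 || Nat.beq u 7141 else true)) 10 3072 = true := by decide +kernel
theorem fixO7_c4 : allPow 14080 (fun u => (bif Nat.beq (trace (wordTabs Fi22O.tabs ([(.b, true), (.c, true), (.d, true), (.e, true), (.f, true), (.g, true)] : List (Cfsg.Spor.Fi22.Gen × Bool))) u) u then Nat.beq u 0 || Nat.beq u 6142 || Nat.beq u 7141 else true)) 10 4096 = true := by decide +kernel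
theorem fixO7_c5 : allPow 14080 (fun u => (bif Nat.beq (trace (wordTabs Fi22O.tabs ([(.b, true), (.c, true), (.d, true), (.e, true), (.f, true), (.g, true)] : List (Cfsg.Spor.Fi22.Gen × Bool))) u) u then Nat.beq u 0 || Nat.beq u 6142 || Nat.beq u 7141 else true)) 10 5120 = true := by decide +kernel
theorem fixO7_c6 : allPow 14080 (fun u => (bif Nat.beq (trace (wordTabs Fi22O.tabs ([(.b, true), (.c, true), (.d, true), (.e, true), (.f, true), (.g, true)] : List (Cfsg.Spor.Fi22.Gen × Bool))) u) u then Nat.beq u 0 || Nat.beq u 6142 || Nat.beq u 7141 else true)) 10 6144 = true := by decide +kernel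
theorem fixO7_c7 : allPow 14080 (fun u => (bif Nat.beq (trace (wordTabs Fi22O.tabs ([(.b, true), (.c, true), (.d, true), (.e, true), (.f, true), (.g, true)] : List (Cfsg.Spor.Fi22.Gen × Bool))) u) u then Nat.beq u 0 || Nat.beq u 6142 || Nat.beq u 7141 else true)) 10 7168 = true := by decide +kernel
theorem fixO7_c8 : allPow 14080 (fun u => (bif Nat.beq (trace (wordTabs Fi22O.tabs ([(.b, true), (.c, true), (.d, true), (.e, true), (.f, true), (.g, true)] : List (Cfsg.Spor.Fi22.Gen × Bool))) u) u then Nat.beq u 0 || Nat.beq u 6142 || Nat.beq u 7141 else true)) 10 8192 = true := by decide +kernel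
theorem fixO7_c9 : allPow 14080 (fun u => (bif Nat.beq (trace (wordTabs Fi22O.tabs ([(.b, true), (.c, true), (.d, true), (.e, true), (.f, true), (.g, true)] : List (Cfsg.Spor.Fi22.Gen × Bool))) u) u then Nat.beq u 0 || Nat.beq u 6142 || Nat.beq u 7141 else true)) 10 9216 = true := by decide +kernel
theorem fixO7_c10 : allPow 14080 (fun u => (bif Nat.beq (trace (wordTabs Fi22O.tabs ([(.b, true), (.c, true), (.d, true), (.e, true), (.f, true), (.g, true)] : List (Cfsg.Spor.Fi22.Gen × Bool))) u) u then Nat.beq u 0 || Nat.beq u 6142 || Nat.beq u 7141 else true)) 10 10240 = true := by decide +kernel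
theorem fixO7_c11 : allPow 14080 (fun u => (bif Nat.beq (trace (wordTabs Fi22O.tabs ([(.b, true), (.c, true), (.d, true), (.e, true), (.f, true), (.g, true)] : List (Cfsg.Spor.Fi22.Gen × Bool))) u) u then Nat.beq u 0 || Nat.beq u 6142 || Nat.beq u 7141 else true)) 10 11264 = true := by decide +kernel
theorem fixO7_c12 : allPow 14080 (fun u => (bif Nat.beq (trace (wordTabs Fi22O.tabs ([(.b, true), (.c, true), (.d, true), (.e, true), (.f, true), (.g, true)] : List (Cfsg.Spor.Fi22.Gen × Bool))) u) u then Nat.beq u 0 || Nat.beq u 6142 || Nat.beq u 7141 else true)) 10 12288 = true := by decide +kernel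
theorem fixO7_c13 : allPow 14080 (fun u => (bif Nat.beq (trace (wordTabs Fi22O.tabs ([(.b, true), (.c, true), (.d, true), (.e, true), (.f, true), (.g, true)] : List (Cfsg.Spor.Fi22.Gen × Bool))) u) u then Nat.beq u 0 || Nat.beq u 6142 || Nat.beq u 7141 else true)) 10 13312 = true := by decide +kernel
theorem fixO7 : allBelow 14 14080 (fun u => (bif Nat.beq (trace (wordTabs Fi22O.tabs ([(.b, true), (.c, true), (.d, true), (.e, true), (.f, true), (.g, true)] : List (Cfsg.Spor.Fi22.Gen × Bool))) u) u then Nat.beq u 0 || Nat.beq u 6142 || Nat.beq u 7141 else true)) = true :=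
  allBelow_of_upto (hi := 14336)
    (Upto.trans (mid := 7168) (Upto.trans (mid := 3072) (Upto.trans (mid := 1024) ((Upto.of_pow fixO7_c0 (Nat.le_refl _)) : Upto _ _ 0 (0 + 2 ^ 10))
    (Upto.trans (mid := 2048) ((Upto.of_pow fixO7_c1 (Nat.le_refl _)) : Upto _ _ 1024 (1024 + 2 ^ 10))
    ((Upto.of_pow fixO7_c2 (Nat.le_refl _)) : Upto _ _ 2048 (2048 + 2 ^ 10))))
    (Upto.trans (mid := 5120) (Upto.trans (mid := 4096) ((Upto.of_pow fixO7_c3 (Nat.le_refl _)) : Upto _ _ 3072 (3072 + 2 ^ 10))
    ((Upto.of_pow fixO7_c4 (Nat.le_refl _)) : Upto _ _ 4096 (4096 + 2 ^ 10)))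
    (Upto.trans (mid := 6144) ((Upto.of_pow fixO7_c5 (Nat.le_refl _)) : Upto _ _ 5120 (5120 + 2 ^ 10))
    ((Upto.of_pow fixO7_c6 (Nat.le_refl _)) : Upto _ _ 6144 (6144 + 2 ^ 10)))))
    (Upto.trans (mid := 10240) (Upto.trans (mid := 8192) ((Upto.of_pow fixO7_c7 (Nat.le_refl _)) : Upto _ _ 7168 (7168 + 2 ^ 10))
    (Upto.trans (mid := 9216) ((Upto.of_pow fixO7_c8 (Nat.le_refl _)) : Upto _ _ 8192 (8192 + 2 ^ 10))
    ((Upto.of_pow fixO7_c9 (Nat.le_refl _)) : Upto _ _ 9216 (9216 + 2 ^ 10))))
    (Upto.trans (mid := 12288) (Upto.trans (mid := 11264) ((Upto.of_pow fixO7_c10 (Nat.le_refl _)) : Upto _ _ 10240 (10240 + 2 ^ 10))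
    ((Upto.of_pow fixO7_c11 (Nat.le_refl _)) : Upto _ _ 11264 (11264 + 2 ^ 10)))
    (Upto.trans (mid := 13312) ((Upto.of_pow fixO7_c12 (Nat.le_refl _)) : Upto _ _ 12288 (12288 + 2 ^ 10))
    ((Upto.of_pow fixO7_c13 (Nat.le_refl _)) : Upto _ _ 13312 (13312 + 2 ^ 10))))))
    (by decide) (by decide)

theorem fixO13_c0 : allPow 14080 (fun u => (bif Nat.beq (trace (wordTabs Fi22O.tabs ([(.g, true), (.e, true), (.i, true), (.d, true), (.b, true), (.c, true), (.h, true), (.f, true)] : List (Cfsg.Spor.Fi22.Gen × Bool))) u) u then Nat.beq u 0 else true)) 10 0 = true := by decide +kernel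
theorem fixO13_c1 : allPow 14080 (fun u => (bif Nat.beq (trace (wordTabs Fi22O.tabs ([(.g, true), (.e, true), (.i, true), (.d, true), (.b, true), (.c, true), (.h, true), (.f, true)] : List (Cfsg.Spor.Fi22.Gen × Bool))) u) u then Nat.beq u 0 else true)) 10 1024 = true := by decide +kernel
theorem fixO13_c2 : allPow 14080 (fun u => (bif Nat.beq (trace (wordTabs Fi22O.tabs ([(.g, true), (.e, true), (.i, true), (.d, true), (.b, true), (.c, true), (.h, true), (.f, true)] : List (Cfsg.Spor.Fi22.Gen × Bool))) u) u then Nat.beq u 0 else true)) 10 2048 = true := by decide +kernel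
theorem fixO13_c3 : allPow 14080 (fun u => (bif Nat.beq (trace (wordTabs Fi22O.tabs ([(.g, true), (.e, true), (.i, true), (.d, true), (.b, true), (.c, true), (.h, true), (.f, true)] : List (Cfsg.Spor.Fi22.Gen × Bool))) u) u then Nat.beq u 0 else true)) 10 3072 = true := by decide +kernel
theorem fixO13_c4 : allPow 14080 (fun u => (bif Nat.beq (trace (wordTabs Fi22O.tabs ([(.g, true), (.e, true), (.i, true), (.d, true), (.b, true), (.c, true), (.h, true), (.f, true)] : List (Cfsg.Spor.Fi22.Gen × Bool))) u) u then Nat.beq u 0 else true)) 10 4096 = true := by decide +kernel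
theorem fixO13_c5 : allPow 14080 (fun u => (bif Nat.beq (trace (wordTabs Fi22O.tabs ([(.g, true), (.e, true), (.i, true), (.d, true), (.b, true), (.c, true), (.h, true), (.f, true)] : List (Cfsg.Spor.Fi22.Gen × Bool))) u) u then Nat.beq u 0 else true)) 10 5120 = true := by decide +kernel
theorem fixO13_c6 : allPow 14080 (fun u => (bif Nat.beq (trace (wordTabs Fi22O.tabs ([(.g, true), (.e, true), (.i, true), (.d, true), (.b, true), (.c, true), (.h, true), (.f, true)] : List (Cfsg.Spor.Fi22.Gen × Bool))) u) u then Nat.beq u 0 else true)) 10 6144 = true := by decide +kernel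
theorem fixO13_c7 : allPow 14080 (fun u => (bif Nat.beq (trace (wordTabs Fi22O.tabs ([(.g, true), (.e, true), (.i, true), (.d, true), (.b, true), (.c, true), (.h, true), (.f, true)] : List (Cfsg.Spor.Fi22.Gen × Bool))) u) u then Nat.beq u 0 else true)) 10 7168 = true := by decide +kernel
theorem fixO13_c8 : allPow 14080 (fun u => (bif Nat.beq (trace (wordTabs Fi22O.tabs ([(.g, true), (.e, true), (.i, true), (.d, true), (.b, true), (.c, true), (.h, true), (.f, true)] : List (Cfsg.Spor.Fi22.Gen × Bool))) u) u then Nat.beq u 0 else true)) 10 8192 = true := by decide +kernel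
theorem fixO13_c9 : allPow 14080 (fun u => (bif Nat.beq (trace (wordTabs Fi22O.tabs ([(.g, true), (.e, true), (.i, true), (.d, true), (.b, true), (.c, true), (.h, true), (.f, true)] : List (Cfsg.Spor.Fi22.Gen × Bool))) u) u then Nat.beq u 0 else true)) 10 9216 = true := by decide +kernel
theorem fixO13_c10 : allPow 14080 (fun u => (bif Nat.beq (trace (wordTabs Fi22O.tabs ([(.g, true), (.e, true), (.i, true), (.d, true), (.b, true), (.c, true), (.h, true), (.f, true)] : List (Cfsg.Spor.Fi22.Gen × Bool))) u) u then Nat.beq u 0 else true)) 10 10240 = true := by decide +kernel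
theorem fixO13_c11 : allPow 14080 (fun u => (bif Nat.beq (trace (wordTabs Fi22O.tabs ([(.g, true), (.e, true), (.i, true), (.d, true), (.b, true), (.c, true), (.h, true), (.f, true)] : List (Cfsg.Spor.Fi22.Gen × Bool))) u) u then Nat.beq u 0 else true)) 10 11264 = true := by decide +kernel
theorem fixO13_c12 : allPow 14080 (fun u => (bif Nat.beq (trace (wordTabs Fi22O.tabs ([(.g, true), (.e, true), (.i, true), (.d, true), (.b, true), (.c, true), (.h, true), (.f, true)] : List (Cfsg.Spor.Fi22.Gen × Bool))) u) u then Nat.beq u 0 else true)) 10 12288 = true := by decide +kernel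
theorem fixO13_c13 : allPow 14080 (fun u => (bif Nat.beq (trace (wordTabs Fi22O.tabs ([(.g, true), (.e, true), (.i, true), (.d, true), (.b, true), (.c, true), (.h, true), (.f, true)] : List (Cfsg.Spor.Fi22.Gen × Bool))) u) u then Nat.beq u 0 else true)) 10 13312 = true := by decide +kernel
theorem fixO13 : allBelow 14 14080 (fun u => (bif Nat.beq (trace (wordTabs Fi22O.tabs ([(.g, true), (.e, true), (.i, true), (.d, true), (.b, true), (.c, true), (.h, true), (.f, true)] : List (Cfsg.Spor.Fi22.Gen × Bool))) u) u then Nat.beq u 0 else true)) = true :=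
  allBelow_of_upto (hi := 14336)
    (Upto.trans (mid := 7168) (Upto.trans (mid := 3072) (Upto.trans (mid := 1024) ((Upto.of_pow fixO13_c0 (Nat.le_refl _)) : Upto _ _ 0 (0 + 2 ^ 10))
    (Upto.trans (mid := 2048) ((Upto.of_pow fixO13_c1 (Nat.le_refl _)) : Upto _ _ 1024 (1024 + 2 ^ 10))
    ((Upto.of_pow fixO13_c2 (Nat.le_refl _)) : Upto _ _ 2048 (2048 + 2 ^ 10))))
    (Upto.trans (mid := 5120) (Upto.trans (mid := 4096) ((Upto.of_pow fixO13_c3 (Nat.le_refl _)) : Upto _ _ 3072 (3072 + 2 ^ 10))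
    ((Upto.of_pow fixO13_c4 (Nat.le_refl _)) : Upto _ _ 4096 (4096 + 2 ^ 10)))
    (Upto.trans (mid := 6144) ((Upto.of_pow fixO13_c5 (Nat.le_refl _)) : Upto _ _ 5120 (5120 + 2 ^ 10))
    ((Upto.of_pow fixO13_c6 (Nat.le_refl _)) : Upto _ _ 6144 (6144 + 2 ^ 10)))))
    (Upto.trans (mid := 10240) (Upto.trans (mid := 8192) ((Upto.of_pow fixO13_c7 (Nat.le_refl _)) : Upto _ _ 7168 (7168 + 2 ^ 10))
    (Upto.trans (mid := 9216) ((Upto.of_pow fixO13_c8 (Nat.le_refl _)) : Upto _ _ 8192 (8192 + 2 ^ 10))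
    ((Upto.of_pow fixO13_c9 (Nat.le_refl _)) : Upto _ _ 9216 (9216 + 2 ^ 10))))
    (Upto.trans (mid := 12288) (Upto.trans (mid := 11264) ((Upto.of_pow fixO13_c10 (Nat.le_refl _)) : Upto _ _ 10240 (10240 + 2 ^ 10))
    ((Upto.of_pow fixO13_c11 (Nat.le_refl _)) : Upto _ _ 11264 (11264 + 2 ^ 10)))
    (Upto.trans (mid := 13312) ((Upto.of_pow fixO13_c12 (Nat.le_refl _)) : Upto _ _ 12288 (12288 + 2 ^ 10))
    ((Upto.of_pow fixO13_c13 (Nat.le_refl _)) : Upto _ _ 13312 (13312 + 2 ^ 10))))))
    (by decide) (by decide)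

theorem pow7_c0 : allPow 3510 (fun u => Nat.beq (trace (List.replicate 7 (wordTabs Fi22U.tabs ([(.b, true), (.c, true), (.d, true), (.e, true), (.f, true), (.g, true)] : List (Cfsg.Spor.Fi22.Gen × Bool)))).flatten u) u) 8 0 = true := by decide +kernel
theorem pow7_c1 : allPow 3510 (fun u => Nat.beq (trace (List.replicate 7 (wordTabs Fi22U.tabs ([(.b, true), (.c, true), (.d, true), (.e, true), (.f, true), (.g, true)] : List (Cfsg.Spor.Fi22.Gen × Bool)))).flatten u) u) 8 256 = true := by decide +kernel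
theorem pow7_c2 : allPow 3510 (fun u => Nat.beq (trace (List.replicate 7 (wordTabs Fi22U.tabs ([(.b, true), (.c, true), (.d, true), (.e, true), (.f, true), (.g, true)] : List (Cfsg.Spor.Fi22.Gen × Bool)))).flatten u) u) 8 512 = true := by decide +kernel
theorem pow7_c3 : allPow 3510 (fun u => Nat.beq (trace (List.replicate 7 (wordTabs Fi22U.tabs ([(.b, true), (.c, true), (.d, true), (.e, true), (.f, true), (.g, true)] : List (Cfsg.Spor.Fi22.Gen × Bool)))).flatten u) u) 8 768 = true := by decide +kernel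
theorem pow7_c4 : allPow 3510 (fun u => Nat.beq (trace (List.replicate 7 (wordTabs Fi22U.tabs ([(.b, true), (.c, true), (.d, true), (.e, true), (.f, true), (.g, true)] : List (Cfsg.Spor.Fi22.Gen × Bool)))).flatten u) u) 8 1024 = true := by decide +kernel
theorem pow7_c5 : allPow 3510 (fun u => Nat.beq (trace (List.replicate 7 (wordTabs Fi22U.tabs ([(.b, true), (.c, true), (.d, true), (.e, true), (.f, true), (.g, true)] : List (Cfsg.Spor.Fi22.Gen × Bool)))).flatten u) u) 8 1280 = true := by decide +kernel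
theorem pow7_c6 : allPow 3510 (fun u => Nat.beq (trace (List.replicate 7 (wordTabs Fi22U.tabs ([(.b, true), (.c, true), (.d, true), (.e, true), (.f, true), (.g, true)] : List (Cfsg.Spor.Fi22.Gen × Bool)))).flatten u) u) 8 1536 = true := by decide +kernel
theorem pow7_c7 : allPow 3510 (fun u => Nat.beq (trace (List.replicate 7 (wordTabs Fi22U.tabs ([(.b, true), (.c, true), (.d, true), (.e, true), (.f, true), (.g, true)] : List (Cfsg.Spor.Fi22.Gen × Bool)))).flatten u) u) 8 1792 = true := by decide +kernel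
theorem pow7_c8 : allPow 3510 (fun u => Nat.beq (trace (List.replicate 7 (wordTabs Fi22U.tabs ([(.b, true), (.c, true), (.d, true), (.e, true), (.f, true), (.g, true)] : List (Cfsg.Spor.Fi22.Gen × Bool)))).flatten u) u) 8 2048 = true := by decide +kernel
theorem pow7_c9 : allPow 3510 (fun u => Nat.beq (trace (List.replicate 7 (wordTabs Fi22U.tabs ([(.b, true), (.c, true), (.d, true), (.e, true), (.f, true), (.g, true)] : List (Cfsg.Spor.Fi22.Gen × Bool)))).flatten u) u) 8 2304 = true := by decide +kernel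
theorem pow7_c10 : allPow 3510 (fun u => Nat.beq (trace (List.replicate 7 (wordTabs Fi22U.tabs ([(.b, true), (.c, true), (.d, true), (.e, true), (.f, true), (.g, true)] : List (Cfsg.Spor.Fi22.Gen × Bool)))).flatten u) u) 8 2560 = true := by decide +kernel
theorem pow7_c11 : allPow 3510 (fun u => Nat.beq (trace (List.replicate 7 (wordTabs Fi22U.tabs ([(.b, true), (.c, true), (.d, true), (.e, true), (.f, true), (.g, true)] : List (Cfsg.Spor.Fi22.Gen × Bool)))).flatten u) u) 8 2816 = true := by decide +kernel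
theorem pow7_c12 : allPow 3510 (fun u => Nat.beq (trace (List.replicate 7 (wordTabs Fi22U.tabs ([(.b, true), (.c, true), (.d, true), (.e, true), (.f, true), (.g, true)] : List (Cfsg.Spor.Fi22.Gen × Bool)))).flatten u) u) 8 3072 = true := by decide +kernel
theorem pow7_c13 : allPow 3510 (fun u => Nat.beq (trace (List.replicate 7 (wordTabs Fi22U.tabs ([(.b, true), (.c, true), (.d, true), (.e, true), (.f, true), (.g, true)] : List (Cfsg.Spor.Fi22.Gen × Bool)))).flatten u) u) 8 3328 = true := by decide +kernel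
theorem pow7 : allBelow 12 3510 (fun u => Nat.beq (trace (List.replicate 7 (wordTabs Fi22U.tabs ([(.b, true), (.c, true), (.d, true), (.e, true), (.f, true), (.g, true)] : List (Cfsg.Spor.Fi22.Gen × Bool)))).flatten u) u) = true :=
  allBelow_of_upto (hi := 3584)
    (Upto.trans (mid := 1792) (Upto.trans (mid := 768) (Upto.trans (mid := 256) ((Upto.of_pow pow7_c0 (Nat.le_refl _)) : Upto _ _ 0 (0 + 2 ^ 8))
    (Upto.trans (mid := 512) ((Upto.of_pow pow7_c1 (Nat.le_refl _)) : Upto _ _ 256 (256 + 2 ^ 8))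
    ((Upto.of_pow pow7_c2 (Nat.le_refl _)) : Upto _ _ 512 (512 + 2 ^ 8))))
    (Upto.trans (mid := 1280) (Upto.trans (mid := 1024) ((Upto.of_pow pow7_c3 (Nat.le_refl _)) : Upto _ _ 768 (768 + 2 ^ 8))
    ((Upto.of_pow pow7_c4 (Nat.le_refl _)) : Upto _ _ 1024 (1024 + 2 ^ 8)))
    (Upto.trans (mid := 1536) ((Upto.of_pow pow7_c5 (Nat.le_refl _)) : Upto _ _ 1280 (1280 + 2 ^ 8))
    ((Upto.of_pow pow7_c6 (Nat.le_refl _)) : Upto _ _ 1536 (1536 + 2 ^ 8)))))
    (Upto.trans (mid := 2560) (Upto.trans (mid := 2048) ((Upto.of_pow pow7_c7 (Nat.le_refl _)) : Upto _ _ 1792 (1792 + 2 ^ 8))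
    (Upto.trans (mid := 2304) ((Upto.of_pow pow7_c8 (Nat.le_refl _)) : Upto _ _ 2048 (2048 + 2 ^ 8))
    ((Upto.of_pow pow7_c9 (Nat.le_refl _)) : Upto _ _ 2304 (2304 + 2 ^ 8))))
    (Upto.trans (mid := 3072) (Upto.trans (mid := 2816) ((Upto.of_pow pow7_c10 (Nat.le_refl _)) : Upto _ _ 2560 (2560 + 2 ^ 8))
    ((Upto.of_pow pow7_c11 (Nat.le_refl _)) : Upto _ _ 2816 (2816 + 2 ^ 8)))
    (Upto.trans (mid := 3328) ((Upto.of_pow pow7_c12 (Nat.le_refl _)) : Upto _ _ 3072 (3072 + 2 ^ 8))
    ((Upto.of_pow pow7_c13 (Nat.le_refl _)) : Upto _ _ 3328 (3328 + 2 ^ 8))))))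
    (by decide) (by decide)

theorem pow13_c0 : allPow 3510 (fun u => Nat.beq (trace (List.replicate 13 (wordTabs Fi22U.tabs ([(.g, true), (.e, true), (.i, true), (.d, true), (.b, true), (.c, true), (.h, true), (.f, true)] : List (Cfsg.Spor.Fi22.Gen × Bool)))).flatten u) u) 7 0 = true := by decide +kernel
theorem pow13_c1 : allPow 3510 (fun u => Nat.beq (trace (List.replicate 13 (wordTabs Fi22U.tabs ([(.g, true), (.e, true), (.i, true), (.d, true), (.b, true), (.c, true), (.h, true), (.f, true)] : List (Cfsg.Spor.Fi22.Gen × Bool)))).flatten u) u) 7 128 = true := by decide +kernel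
theorem pow13_c2 : allPow 3510 (fun u => Nat.beq (trace (List.replicate 13 (wordTabs Fi22U.tabs ([(.g, true), (.e, true), (.i, true), (.d, true), (.b, true), (.c, true), (.h, true), (.f, true)] : List (Cfsg.Spor.Fi22.Gen × Bool)))).flatten u) u) 7 256 = true := by decide +kernel
theorem pow13_c3 : allPow 3510 (fun u => Nat.beq (trace (List.replicate 13 (wordTabs Fi22U.tabs ([(.g, true), (.e, true), (.i, true), (.d, true), (.b, true), (.c, true), (.h, true), (.f, true)] : List (Cfsg.Spor.Fi22.Gen × Bool)))).flatten u) u) 7 384 = true := by decide +kernel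
theorem pow13_c4 : allPow 3510 (fun u => Nat.beq (trace (List.replicate 13 (wordTabs Fi22U.tabs ([(.g, true), (.e, true), (.i, true), (.d, true), (.b, true), (.c, true), (.h, true), (.f, true)] : List (Cfsg.Spor.Fi22.Gen × Bool)))).flatten u) u) 7 512 = true := by decide +kernel
theorem pow13_c5 : allPow 3510 (fun u => Nat.beq (trace (List.replicate 13 (wordTabs Fi22U.tabs ([(.g, true), (.e, true), (.i, true), (.d, true), (.b, true), (.c, true), (.h, true), (.f, true)] : List (Cfsg.Spor.Fi22.Gen × Bool)))).flatten u) u) 7 640 = true := by decide +kernel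
theorem pow13_c6 : allPow 3510 (fun u => Nat.beq (trace (List.replicate 13 (wordTabs Fi22U.tabs ([(.g, true), (.e, true), (.i, true), (.d, true), (.b, true), (.c, true), (.h, true), (.f, true)] : List (Cfsg.Spor.Fi22.Gen × Bool)))).flatten u) u) 7 768 = true := by decide +kernel
theorem pow13_c7 : allPow 3510 (fun u => Nat.beq (trace (List.replicate 13 (wordTabs Fi22U.tabs ([(.g, true), (.e, true), (.i, true), (.d, true), (.b, true), (.c, true), (.h, true), (.f, true)] : List (Cfsg.Spor.Fi22.Gen × Bool)))).flatten u) u) 7 896 = true := by decide +kernel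
theorem pow13_c8 : allPow 3510 (fun u => Nat.beq (trace (List.replicate 13 (wordTabs Fi22U.tabs ([(.g, true), (.e, true), (.i, true), (.d, true), (.b, true), (.c, true), (.h, true), (.f, true)] : List (Cfsg.Spor.Fi22.Gen × Bool)))).flatten u) u) 7 1024 = true := by decide +kernel
theorem pow13_c9 : allPow 3510 (fun u => Nat.beq (trace (List.replicate 13 (wordTabs Fi22U.tabs ([(.g, true), (.e, true), (.i, true), (.d, true), (.b, true), (.c, true), (.h, true), (.f, true)] : List (Cfsg.Spor.Fi22.Gen × Bool)))).flatten u) u) 7 1152 = true := by decide +kernel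
theorem pow13_c10 : allPow 3510 (fun u => Nat.beq (trace (List.replicate 13 (wordTabs Fi22U.tabs ([(.g, true), (.e, true), (.i, true), (.d, true), (.b, true), (.c, true), (.h, true), (.f, true)] : List (Cfsg.Spor.Fi22.Gen × Bool)))).flatten u) u) 7 1280 = true := by decide +kernel
theorem pow13_c11 : allPow 3510 (fun u => Nat.beq (trace (List.replicate 13 (wordTabs Fi22U.tabs ([(.g, true), (.e, true), (.i, true), (.d, true), (.b, true), (.c, true), (.h, true), (.f, true)] : List (Cfsg.Spor.Fi22.Gen × Bool)))).flatten u) u) 7 1408 = true := by decide +kernel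
theorem pow13_c12 : allPow 3510 (fun u => Nat.beq (trace (List.replicate 13 (wordTabs Fi22U.tabs ([(.g, true), (.e, true), (.i, true), (.d, true), (.b, true), (.c, true), (.h, true), (.f, true)] : List (Cfsg.Spor.Fi22.Gen × Bool)))).flatten u) u) 7 1536 = true := by decide +kernel
theorem pow13_c13 : allPow 3510 (fun u => Nat.beq (trace (List.replicate 13 (wordTabs Fi22U.tabs ([(.g, true), (.e, true), (.i, true), (.d, true), (.b, true), (.c, true), (.h, true), (.f, true)] : List (Cfsg.Spor.Fi22.Gen × Bool)))).flatten u) u) 7 1664 = true := by decide +kernel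
theorem pow13_c14 : allPow 3510 (fun u => Nat.beq (trace (List.replicate 13 (wordTabs Fi22U.tabs ([(.g, true), (.e, true), (.i, true), (.d, true), (.b, true), (.c, true), (.h, true), (.f, true)] : List (Cfsg.Spor.Fi22.Gen × Bool)))).flatten u) u) 7 1792 = true := by decide +kernel
theorem pow13_c15 : allPow 3510 (fun u => Nat.beq (trace (List.replicate 13 (wordTabs Fi22U.tabs ([(.g, true), (.e, true), (.i, true), (.d, true), (.b, true), (.c, true), (.h, true), (.f, true)] : List (Cfsg.Spor.Fi22.Gen × Bool)))).flatten u) u) 7 1920 = true := by decide +kernel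
theorem pow13_c16 : allPow 3510 (fun u => Nat.beq (trace (List.replicate 13 (wordTabs Fi22U.tabs ([(.g, true), (.e, true), (.i, true), (.d, true), (.b, true), (.c, true), (.h, true), (.f, true)] : List (Cfsg.Spor.Fi22.Gen × Bool)))).flatten u) u) 7 2048 = true := by decide +kernel
theorem pow13_c17 : allPow 3510 (fun u => Nat.beq (trace (List.replicate 13 (wordTabs Fi22U.tabs ([(.g, true), (.e, true), (.i, true), (.d, true), (.b, true), (.c, true), (.h, true), (.f, true)] : List (Cfsg.Spor.Fi22.Gen × Bool)))).flatten u) u) 7 2176 = true := by decide +kernel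
theorem pow13_c18 : allPow 3510 (fun u => Nat.beq (trace (List.replicate 13 (wordTabs Fi22U.tabs ([(.g, true), (.e, true), (.i, true), (.d, true), (.b, true), (.c, true), (.h, true), (.f, true)] : List (Cfsg.Spor.Fi22.Gen × Bool)))).flatten u) u) 7 2304 = true := by decide +kernel
theorem pow13_c19 : allPow 3510 (fun u => Nat.beq (trace (List.replicate 13 (wordTabs Fi22U.tabs ([(.g, true), (.e, true), (.i, true), (.d, true), (.b, true), (.c, true), (.h, true), (.f, true)] : List (Cfsg.Spor.Fi22.Gen × Bool)))).flatten u) u) 7 2432 = true := by decide +kernel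
theorem pow13_c20 : allPow 3510 (fun u => Nat.beq (trace (List.replicate 13 (wordTabs Fi22U.tabs ([(.g, true), (.e, true), (.i, true), (.d, true), (.b, true), (.c, true), (.h, true), (.f, true)] : List (Cfsg.Spor.Fi22.Gen × Bool)))).flatten u) u) 7 2560 = true := by decide +kernel
theorem pow13_c21 : allPow 3510 (fun u => Nat.beq (trace (List.replicate 13 (wordTabs Fi22U.tabs ([(.g, true), (.e, true), (.i, true), (.d, true), (.b, true), (.c, true), (.h, true), (.f, true)] : List (Cfsg.Spor.Fi22.Gen × Bool)))).flatten u) u) 7 2688 = true := by decide +kernel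
theorem pow13_c22 : allPow 3510 (fun u => Nat.beq (trace (List.replicate 13 (wordTabs Fi22U.tabs ([(.g, true), (.e, true), (.i, true), (.d, true), (.b, true), (.c, true), (.h, true), (.f, true)] : List (Cfsg.Spor.Fi22.Gen × Bool)))).flatten u) u) 7 2816 = true := by decide +kernel
theorem pow13_c23 : allPow 3510 (fun u => Nat.beq (trace (List.replicate 13 (wordTabs Fi22U.tabs ([(.g, true), (.e, true), (.i, true), (.d, true), (.b, true), (.c, true), (.h, true), (.f, true)] : List (Cfsg.Spor.Fi22.Gen × Bool)))).flatten u) u) 7 2944 = true := by decide +kernel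
theorem pow13_c24 : allPow 3510 (fun u => Nat.beq (trace (List.replicate 13 (wordTabs Fi22U.tabs ([(.g, true), (.e, true), (.i, true), (.d, true), (.b, true), (.c, true), (.h, true), (.f, true)] : List (Cfsg.Spor.Fi22.Gen × Bool)))).flatten u) u) 7 3072 = true := by decide +kernel
theorem pow13_c25 : allPow 3510 (fun u => Nat.beq (trace (List.replicate 13 (wordTabs Fi22U.tabs ([(.g, true), (.e, true), (.i, true), (.d, true), (.b, true), (.c, true), (.h, true), (.f, true)] : List (Cfsg.Spor.Fi22.Gen × Bool)))).flatten u) u) 7 3200 = true := by decide +kernel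
theorem pow13_c26 : allPow 3510 (fun u => Nat.beq (trace (List.replicate 13 (wordTabs Fi22U.tabs ([(.g, true), (.e, true), (.i, true), (.d, true), (.b, true), (.c, true), (.h, true), (.f, true)] : List (Cfsg.Spor.Fi22.Gen × Bool)))).flatten u) u) 7 3328 = true := by decide +kernel
theorem pow13_c27 : allPow 3510 (fun u => Nat.beq (trace (List.replicate 13 (wordTabs Fi22U.tabs ([(.g, true), (.e, true), (.i, true), (.d, true), (.b, true), (.c, true), (.h, true), (.f, true)] : List (Cfsg.Spor.Fi22.Gen × Bool)))).flatten u) u) 7 3456 = true := by decide +kernel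
theorem pow13 : allBelow 12 3510 (fun u => Nat.beq (trace (List.replicate 13 (wordTabs Fi22U.tabs ([(.g, true), (.e, true), (.i, true), (.d, true), (.b, true), (.c, true), (.h, true), (.f, true)] : List (Cfsg.Spor.Fi22.Gen × Bool)))).flatten u) u) = true :=
  allBelow_of_upto (hi := 3584)
    (Upto.trans (mid := 1792) (Upto.trans (mid := 896) (Upto.trans (mid := 384) (Upto.trans (mid := 128) ((Upto.of_pow pow13_c0 (Nat.le_refl _)) : Upto _ _ 0 (0 + 2 ^ 7))
    (Upto.trans (mid := 256) ((Upto.of_pow pow13_c1 (Nat.le_refl _)) : Upto _ _ 128 (128 + 2 ^ 7))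
    ((Upto.of_pow pow13_c2 (Nat.le_refl _)) : Upto _ _ 256 (256 + 2 ^ 7))))
    (Upto.trans (mid := 640) (Upto.trans (mid := 512) ((Upto.of_pow pow13_c3 (Nat.le_refl _)) : Upto _ _ 384 (384 + 2 ^ 7))
    ((Upto.of_pow pow13_c4 (Nat.le_refl _)) : Upto _ _ 512 (512 + 2 ^ 7)))
    (Upto.trans (mid := 768) ((Upto.of_pow pow13_c5 (Nat.le_refl _)) : Upto _ _ 640 (640 + 2 ^ 7))
    ((Upto.of_pow pow13_c6 (Nat.le_refl _)) : Upto _ _ 768 (768 + 2 ^ 7)))))
    (Upto.trans (mid := 1280) (Upto.trans (mid := 1024) ((Upto.of_pow pow13_c7 (Nat.le_refl _)) : Upto _ _ 896 (896 + 2 ^ 7))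
    (Upto.trans (mid := 1152) ((Upto.of_pow pow13_c8 (Nat.le_refl _)) : Upto _ _ 1024 (1024 + 2 ^ 7))
    ((Upto.of_pow pow13_c9 (Nat.le_refl _)) : Upto _ _ 1152 (1152 + 2 ^ 7))))
    (Upto.trans (mid := 1536) (Upto.trans (mid := 1408) ((Upto.of_pow pow13_c10 (Nat.le_refl _)) : Upto _ _ 1280 (1280 + 2 ^ 7))
    ((Upto.of_pow pow13_c11 (Nat.le_refl _)) : Upto _ _ 1408 (1408 + 2 ^ 7)))
    (Upto.trans (mid := 1664) ((Upto.of_pow pow13_c12 (Nat.le_refl _)) : Upto _ _ 1536 (1536 + 2 ^ 7))
    ((Upto.of_pow pow13_c13 (Nat.le_refl _)) : Upto _ _ 1664 (1664 + 2 ^ 7))))))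
    (Upto.trans (mid := 2688) (Upto.trans (mid := 2176) (Upto.trans (mid := 1920) ((Upto.of_pow pow13_c14 (Nat.le_refl _)) : Upto _ _ 1792 (1792 + 2 ^ 7))
    (Upto.trans (mid := 2048) ((Upto.of_pow pow13_c15 (Nat.le_refl _)) : Upto _ _ 1920 (1920 + 2 ^ 7))
    ((Upto.of_pow pow13_c16 (Nat.le_refl _)) : Upto _ _ 2048 (2048 + 2 ^ 7))))
    (Upto.trans (mid := 2432) (Upto.trans (mid := 2304) ((Upto.of_pow pow13_c17 (Nat.le_refl _)) : Upto _ _ 2176 (2176 + 2 ^ 7))
    ((Upto.of_pow pow13_c18 (Nat.le_refl _)) : Upto _ _ 2304 (2304 + 2 ^ 7)))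
    (Upto.trans (mid := 2560) ((Upto.of_pow pow13_c19 (Nat.le_refl _)) : Upto _ _ 2432 (2432 + 2 ^ 7))
    ((Upto.of_pow pow13_c20 (Nat.le_refl _)) : Upto _ _ 2560 (2560 + 2 ^ 7)))))
    (Upto.trans (mid := 3072) (Upto.trans (mid := 2816) ((Upto.of_pow pow13_c21 (Nat.le_refl _)) : Upto _ _ 2688 (2688 + 2 ^ 7))
    (Upto.trans (mid := 2944) ((Upto.of_pow pow13_c22 (Nat.le_refl _)) : Upto _ _ 2816 (2816 + 2 ^ 7))
    ((Upto.of_pow pow13_c23 (Nat.le_refl _)) : Upto _ _ 2944 (2944 + 2 ^ 7))))
    (Upto.trans (mid := 3328) (Upto.trans (mid := 3200) ((Upto.of_pow pow13_c24 (Nat.le_refl _)) : Upto _ _ 3072 (3072 + 2 ^ 7))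
    ((Upto.of_pow pow13_c25 (Nat.le_refl _)) : Upto _ _ 3200 (3200 + 2 ^ 7)))
    (Upto.trans (mid := 3456) ((Upto.of_pow pow13_c26 (Nat.le_refl _)) : Upto _ _ 3328 (3328 + 2 ^ 7))
    ((Upto.of_pow pow13_c27 (Nat.le_refl _)) : Upto _ _ 3456 (3456 + 2 ^ 7)))))))
    (by decide) (by decide)

theorem powA7_c0 : allPow 3510 (fun u => Nat.beq (trace (List.replicate 7 (wordTabs Fi22U.tabs ([(.d, true), (.e, true), (.f, true), (.g, true), (.h, true), (.i, true)] : List (Cfsg.Spor.Fi22.Gen × Bool)))).flatten u) u) 8 0 = true := by decide +kernel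
theorem powA7_c1 : allPow 3510 (fun u => Nat.beq (trace (List.replicate 7 (wordTabs Fi22U.tabs ([(.d, true), (.e, true), (.f, true), (.g, true), (.h, true), (.i, true)] : List (Cfsg.Spor.Fi22.Gen × Bool)))).flatten u) u) 8 256 = true := by decide +kernel
theorem powA7_c2 : allPow 3510 (fun u => Nat.beq (trace (List.replicate 7 (wordTabs Fi22U.tabs ([(.d, true), (.e, true), (.f, true), (.g, true), (.h, true), (.i, true)] : List (Cfsg.Spor.Fi22.Gen × Bool)))).flatten u) u) 8 512 = true := by decide +kernel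
theorem powA7_c3 : allPow 3510 (fun u => Nat.beq (trace (List.replicate 7 (wordTabs Fi22U.tabs ([(.d, true), (.e, true), (.f, true), (.g, true), (.h, true), (.i, true)] : List (Cfsg.Spor.Fi22.Gen × Bool)))).flatten u) u) 8 768 = true := by decide +kernel
theorem powA7_c4 : allPow 3510 (fun u => Nat.beq (trace (List.replicate 7 (wordTabs Fi22U.tabs ([(.d, true), (.e, true), (.f, true), (.g, true), (.h, true), (.i, true)] : List (Cfsg.Spor.Fi22.Gen × Bool)))).flatten u) u) 8 1024 = true := by decide +kernel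
theorem powA7_c5 : allPow 3510 (fun u => Nat.beq (trace (List.replicate 7 (wordTabs Fi22U.tabs ([(.d, true), (.e, true), (.f, true), (.g, true), (.h, true), (.i, true)] : List (Cfsg.Spor.Fi22.Gen × Bool)))).flatten u) u) 8 1280 = true := by decide +kernel
theorem powA7_c6 : allPow 3510 (fun u => Nat.beq (trace (List.replicate 7 (wordTabs Fi22U.tabs ([(.d, true), (.e, true), (.f, true), (.g, true), (.h, true), (.i, true)] : List (Cfsg.Spor.Fi22.Gen × Bool)))).flatten u) u) 8 1536 = true := by decide +kernel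
theorem powA7_c7 : allPow 3510 (fun u => Nat.beq (trace (List.replicate 7 (wordTabs Fi22U.tabs ([(.d, true), (.e, true), (.f, true), (.g, true), (.h, true), (.i, true)] : List (Cfsg.Spor.Fi22.Gen × Bool)))).flatten u) u) 8 1792 = true := by decide +kernel
theorem powA7_c8 : allPow 3510 (fun u => Nat.beq (trace (List.replicate 7 (wordTabs Fi22U.tabs ([(.d, true), (.e, true), (.f, true), (.g, true), (.h, true), (.i, true)] : List (Cfsg.Spor.Fi22.Gen × Bool)))).flatten u) u) 8 2048 = true := by decide +kernel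
theorem powA7_c9 : allPow 3510 (fun u => Nat.beq (trace (List.replicate 7 (wordTabs Fi22U.tabs ([(.d, true), (.e, true), (.f, true), (.g, true), (.h, true), (.i, true)] : List (Cfsg.Spor.Fi22.Gen × Bool)))).flatten u) u) 8 2304 = true := by decide +kernel
theorem powA7_c10 : allPow 3510 (fun u => Nat.beq (trace (List.replicate 7 (wordTabs Fi22U.tabs ([(.d, true), (.e, true), (.f, true), (.g, true), (.h, true), (.i, true)] : List (Cfsg.Spor.Fi22.Gen × Bool)))).flatten u) u) 8 2560 = true := by decide +kernel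
theorem powA7_c11 : allPow 3510 (fun u => Nat.beq (trace (List.replicate 7 (wordTabs Fi22U.tabs ([(.d, true), (.e, true), (.f, true), (.g, true), (.h, true), (.i, true)] : List (Cfsg.Spor.Fi22.Gen × Bool)))).flatten u) u) 8 2816 = true := by decide +kernel
theorem powA7_c12 : allPow 3510 (fun u => Nat.beq (trace (List.replicate 7 (wordTabs Fi22U.tabs ([(.d, true), (.e, true), (.f, true), (.g, true), (.h, true), (.i, true)] : List (Cfsg.Spor.Fi22.Gen × Bool)))).flatten u) u) 8 3072 = true := by decide +kernel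
theorem powA7_c13 : allPow 3510 (fun u => Nat.beq (trace (List.replicate 7 (wordTabs Fi22U.tabs ([(.d, true), (.e, true), (.f, true), (.g, true), (.h, true), (.i, true)] : List (Cfsg.Spor.Fi22.Gen × Bool)))).flatten u) u) 8 3328 = true := by decide +kernel
theorem powA7 : allBelow 12 3510 (fun u => Nat.beq (trace (List.replicate 7 (wordTabs Fi22U.tabs ([(.d, true), (.e, true), (.f, true), (.g, true), (.h, true), (.i, true)] : List (Cfsg.Spor.Fi22.Gen × Bool)))).flatten u) u) = true :=
  allBelow_of_upto (hi := 3584)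
    (Upto.trans (mid := 1792) (Upto.trans (mid := 768) (Upto.trans (mid := 256) ((Upto.of_pow powA7_c0 (Nat.le_refl _)) : Upto _ _ 0 (0 + 2 ^ 8))
    (Upto.trans (mid := 512) ((Upto.of_pow powA7_c1 (Nat.le_refl _)) : Upto _ _ 256 (256 + 2 ^ 8))
    ((Upto.of_pow powA7_c2 (Nat.le_refl _)) : Upto _ _ 512 (512 + 2 ^ 8))))
    (Upto.trans (mid := 1280) (Upto.trans (mid := 1024) ((Upto.of_pow powA7_c3 (Nat.le_refl _)) : Upto _ _ 768 (768 + 2 ^ 8))
    ((Upto.of_pow powA7_c4 (Nat.le_refl _)) : Upto _ _ 1024 (1024 + 2 ^ 8)))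
    (Upto.trans (mid := 1536) ((Upto.of_pow powA7_c5 (Nat.le_refl _)) : Upto _ _ 1280 (1280 + 2 ^ 8))
    ((Upto.of_pow powA7_c6 (Nat.le_refl _)) : Upto _ _ 1536 (1536 + 2 ^ 8)))))
    (Upto.trans (mid := 2560) (Upto.trans (mid := 2048) ((Upto.of_pow powA7_c7 (Nat.le_refl _)) : Upto _ _ 1792 (1792 + 2 ^ 8))
    (Upto.trans (mid := 2304) ((Upto.of_pow powA7_c8 (Nat.le_refl _)) : Upto _ _ 2048 (2048 + 2 ^ 8))
    ((Upto.of_pow powA7_c9 (Nat.le_refl _)) : Upto _ _ 2304 (2304 + 2 ^ 8))))
    (Upto.trans (mid := 3072) (Upto.trans (mid := 2816) ((Upto.of_pow powA7_c10 (Nat.le_refl _)) : Upto _ _ 2560 (2560 + 2 ^ 8))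
    ((Upto.of_pow powA7_c11 (Nat.le_refl _)) : Upto _ _ 2816 (2816 + 2 ^ 8)))
    (Upto.trans (mid := 3328) ((Upto.of_pow powA7_c12 (Nat.le_refl _)) : Upto _ _ 3072 (3072 + 2 ^ 8))
    ((Upto.of_pow powA7_c13 (Nat.le_refl _)) : Upto _ _ 3328 (3328 + 2 ^ 8))))))
    (by decide) (by decide)

end CfsgLib.SporRecognition.Cert.O7C
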